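import Cfsg.Agent.Lib.FusionP3.Criterion.Radical
import Cfsg.Agent.Lib.FusionSystem.Agree
import Cfsg.Agent.Lib.FusionEssential.Centric
import Cfsg.Agent.Lib.Transfer.FusionLocal

/-!
Twisting by automorphisms of the base, and the system generated by the subgroups of the automizers of centric
radical subgroups that are generated by elements of `p`-power order.
-/

set_option autoImplicit false
set_option linter.style.haveILetI false
set_option linter.unusedSectionVars false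

namespace Cfsg.Agent.Lib.FusionP3.Prime

open Cfsg Cfsg.FusionSystem Cfsg.Agent.Lib.FS
open Cfsg.Agent.Lib.FusionP3.Criterion

variable {Ω : Type*} [Group Ω]

section Twist

variable {T : Subgroup Ω}

/-- the image of `P ≤ T` under an automorphism of `T` -/
def img (α : MulAut T) (P : Subgroup Ω) : Subgroup Ω := (P.subgroupOf T).map (T.subtype.comp α.toMonoidHom)

theorem apply_mem_img (α : MulAut T) {P : Subgroup Ω} (hP : P ≤ T) (x : P) :
    ((α ⟨x, hP x.2⟩ : T) : Ω) ∈ img α P := ⟨⟨x, hP x.2⟩, x.2, rfl⟩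

theorem img_le (α : MulAut T) (P : Subgroup Ω) : img α P ≤ T := by
  rintro _ ⟨x, -, rfl⟩; exact (α x).2

theorem mem_img {α : MulAut T} {P : Subgroup Ω} {y : Ω} (hy : y ∈ T) :
    y ∈ img α P ↔ ((α⁻¹ ⟨y, hy⟩ : T) : Ω) ∈ P := by
  constructor
  · rintro ⟨x, hx, he⟩
    rw [show (⟨y, hy⟩ : T) = α x from Subtype.ext he.symm, MulAut.inv_apply_self]
    exact hx
  · intro h
    exact ⟨α⁻¹ ⟨y, hy⟩, h, by simp⟩

/-- restriction of an automorphism of `T` -/
def autRes (α : MulAut T) {P : Subgroup Ω} (hP : P ≤ T) : P →* Ω :=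
  T.subtype.comp (α.toMonoidHom.comp (Subgroup.inclusion hP))

@[simp] theorem autRes_apply (α : MulAut T) {P : Subgroup Ω} (hP : P ≤ T) (x : P) :
    autRes α hP x = ((α ⟨x, hP x.2⟩ : T) : Ω) := rfl

theorem autRes_range (α : MulAut T) {P : Subgroup Ω} (hP : P ≤ T) : (autRes α hP).range = img α P := by
  ext y
  constructor
  · rintro ⟨x, rfl⟩; exact apply_mem_img α hP x
  · rintro ⟨x, hx, rfl⟩; exact ⟨⟨x, hx⟩, rfl⟩

theorem autRes_mem {E : FusionSystem T} {α : MulAut T} (hα : α ∈ E.autGroup T) {P : Subgroup Ω} (hP : P ≤ T) :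
    autRes α hP ∈ E.Hom P := by
  obtain ⟨φ, hφ, -, he⟩ := exists_hom_of_aut le_rfl hα
  exact mem_of_restrict hφ hP fun x => (he _).symm

/-- `E` is invariant under `α` -/
def Inv (E : FusionSystem T) (α : MulAut T) : Prop :=
  ∀ (P : Subgroup Ω) (hPT : P ≤ T) (φ : P →* Ω), φ ∈ E.Hom P →
    ∃ χ ∈ E.Hom (img α P), ∀ (x : P) (hφx : φ x ∈ T) (hαx : ((α ⟨x, hPT x.2⟩ : T) : Ω) ∈ img α P),
      χ ⟨(α ⟨x, hPT x.2⟩ : T), hαx⟩ = ((α ⟨φ x, hφx⟩ : T) : Ω)

/-- Moving an automorphism of the base to the left. -/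
theorem exists_swap {E : FusionSystem T} {α : MulAut T} (hinv : Inv E α⁻¹) {X Q : Subgroup Ω} {e : X →* Ω}
    (he : e ∈ E.Hom X) {φ : Q →* Ω} (hφ : φ ∈ E.Hom Q)
    (hm : ∀ x, ((α ⟨e x, apply_mem he x⟩ : T) : Ω) ∈ Q) :
    ∃ e' ∈ E.Hom X, ∀ (x : X) (hx : e' x ∈ T),
      φ ⟨((α ⟨e x, apply_mem he x⟩ : T) : Ω), hm x⟩ = ((α ⟨e' x, hx⟩ : T) : Ω) := by
  obtain ⟨χ, hχ, hχe⟩ := hinv Q (src_le hφ) φ hφ
  have hmem : ∀ x, e x ∈ img α⁻¹ Q := fun x => by
    rw [mem_img (apply_mem he x), inv_inv]; exact hm x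
  obtain ⟨e', he', he'e⟩ := exists_comp he hχ hmem
  refine ⟨e', he', fun x hx => ?_⟩
  have h1 := hχe ⟨_, hm x⟩ (apply_mem hφ _) (by simpa using hmem x)
  have h2 : e' x = ((α⁻¹ ⟨φ ⟨_, hm x⟩, apply_mem hφ _⟩ : T) : Ω) := by
    rw [he'e, ← h1]
    exact congrArg χ (Subtype.ext (by simp))
  rw [show (⟨e' x, hx⟩ : T) = α⁻¹ ⟨φ ⟨_, hm x⟩, apply_mem hφ _⟩ from Subtype.ext h2, MulAut.apply_inv_self]

/-- Maps of the form `α ∘ e` belong to every system containing `α` and `e`. -/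
theorem mem_of_dec {S : Subgroup Ω} {F : FusionSystem S} {E : FusionSystem T} (hEF : E.IsSubsystemOf F)
    {α : MulAut T} (hα : α ∈ F.autGroup T) {P : Subgroup Ω} {φ e : P →* Ω} (he : e ∈ E.Hom P)
    (h : ∀ (x : P) (hx : e x ∈ T), φ x = ((α ⟨e x, hx⟩ : T) : Ω)) : φ ∈ F.Hom P := by
  have hTS : T ≤ S := src_le (hEF T (subtype_mem E le_rfl))
  exact mem_comp (hEF P he) ((mem_autGroup hTS).1 hα) (fun x => apply_mem he x) fun x => h x _

/-- Transport of a system along an automorphism of its base. -/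
def pull (D : FusionSystem T) (α : MulAut T) : FusionSystem T where
  Hom P := {φ | P ≤ T ∧ (∀ x, φ x ∈ T) ∧ ∃ χ ∈ D.Hom (img α P),
    ∀ (x : P) (hx : (x : Ω) ∈ T) (hφx : φ x ∈ T) (hαx : ((α ⟨x, hx⟩ : T) : Ω) ∈ img α P),
      χ ⟨(α ⟨x, hx⟩ : T), hαx⟩ = ((α ⟨φ x, hφx⟩ : T) : Ω)}
  le_of_mem := fun h => ⟨h.1, h.2.1⟩
  injective_of_mem := by
    rintro P φ ⟨hP, hφ, χ, hχ, he⟩ a b hab
    have h1 := (he a (hP a.2) (hφ a) (apply_mem_img α hP a))
    have h2 := (he b (hP b.2) (hφ b) (apply_mem_img α hP b))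
    have h3 : χ ⟨_, apply_mem_img α hP a⟩ = χ ⟨_, apply_mem_img α hP b⟩ := by
      rw [h1, h2]
      exact congrArg (fun z => ((α z : T) : Ω)) (Subtype.ext hab)
    have h4 := congrArg Subtype.val (D.injective_of_mem hχ h3)
    exact Subtype.ext (congrArg Subtype.val (α.injective (Subtype.ext h4)) :)
  conj_mem := by
    intro P g hP hg
    refine ⟨hP, fun x => mul_mem (mul_mem hg (hP x.2)) (inv_mem hg), _,
      D.conj_mem (img_le α P) (α ⟨g, hg⟩).2, fun x hx hφx hαx => ?_⟩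
    rw [conjHom_apply, show (⟨conjHom P g x, hφx⟩ : T) = ⟨g, hg⟩ * ⟨x, hx⟩ * ⟨g, hg⟩⁻¹ from Subtype.ext rfl,
      map_mul, map_mul, map_inv]
    rfl
  comp_mem := by
    rintro P Q φ ψ ⟨hP, hφ, χ, hχ, he⟩ ⟨hQ, hψ, ω, hω, he'⟩ hm
    have hval : ∀ z : img α P, χ z ∈ img α Q := by
      rintro ⟨_, y, hy, rfl⟩
      have h1 := he ⟨y, hy⟩ y.2 (hφ _) (apply_mem_img α hP ⟨y, hy⟩)
      exact (congrArg (· ∈ img α Q) h1).mpr (apply_mem_img α hQ ⟨_, hm _⟩)
    obtain ⟨ζ, hζ, hζe⟩ := exists_comp hχ hω hval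
    refine ⟨hP, fun x => hψ _, ζ, hζ, fun x hx hφx hαx => ?_⟩
    rw [hζe]
    have h1 := he x hx (hφ x) hαx
    have h2 := he' ⟨φ x, hm x⟩ (hφ x) (hψ _) (apply_mem_img α hQ ⟨_, hm _⟩)
    exact ((congrArg ω (Subtype.ext h1)).trans h2)
  inv_mem := by
    rintro P φ ⟨hP, hφ, χ, hχ, he⟩
    have hr : χ.range = img α φ.range := by
      ext y
      constructor
      · rintro ⟨⟨_, x, hx, rfl⟩, rfl⟩
        exact (congrArg (· ∈ img α φ.range) (he ⟨x, hx⟩ x.2 (hφ _) (apply_mem_img α hP ⟨x, hx⟩))).mpr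
          ⟨⟨φ ⟨x, hx⟩, hφ _⟩, ⟨_, rfl⟩, rfl⟩
      · rintro ⟨⟨_, hzT⟩, ⟨x, rfl⟩, rfl⟩
        exact ⟨⟨_, apply_mem_img α hP x⟩, he x (hP x.2) _ _⟩
    obtain ⟨η, hη, -, hηl, -⟩ := exists_inv hχ hr
    let ψ : φ.range →* Ω := P.subtype.comp (MonoidHom.ofInjective (show Function.Injective φ by
      intro a b hab
      have h1 := he a (hP a.2) (hφ a) (apply_mem_img α hP a)
      have h2 := he b (hP b.2) (hφ b) (apply_mem_img α hP b)
      have h3 : χ ⟨_, apply_mem_img α hP a⟩ = χ ⟨_, apply_mem_img α hP b⟩ := by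
        rw [h1, h2]
        exact congrArg (fun z => ((α z : T) : Ω)) (Subtype.ext hab)
      have h4 : α ⟨a, hP a.2⟩ = α ⟨b, hP b.2⟩ :=
        Subtype.ext (congrArg (fun z : img α P => (z : Ω)) (D.injective_of_mem hχ h3))
      exact Subtype.ext (congrArg (fun z : T => (z : Ω)) (α.injective h4)))).symm.toMonoidHom
    have hψ : ∀ x : P, ψ ⟨φ x, x, rfl⟩ = x := fun x => by
      show ((_ : P) : Ω) = _
      congr 1
      exact MulEquiv.symm_apply_eq _ |>.2 (Subtype.ext rfl)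
    refine ⟨ψ, ⟨by rintro _ ⟨x, rfl⟩; exact hφ x, fun y => ?_, η, hη, ?_⟩, hψ⟩
    · obtain ⟨_, x, rfl⟩ := y
      rw [hψ]; exact hP x.2
    · rintro ⟨_, x, rfl⟩ hx hψx hαx
      have h1 := he x (hP x.2) (hφ x) (apply_mem_img α hP x)
      have h2 := hηl ⟨_, apply_mem_img α hP x⟩ (hr.le ⟨_, rfl⟩)
      refine ((congrArg η (Subtype.ext h1.symm)).trans h2).trans ?_
      exact congrArg (fun z => ((α z : T) : Ω)) (Subtype.ext (hψ x).symm)

end Twist

variable {S : Subgroup Ω} [Finite S] {p : ℕ} [Fact p.Prime] {F : FusionSystem S}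

/-- the subgroup of `Aut_F(P)` generated by the elements of `p`-power order -/
def pp (F : FusionSystem S) (p : ℕ) (P : Subgroup Ω) : Subgroup (MulAut P) :=
  (Subgroup.closure {α : ↥(F.autGroup P) | ∃ k : ℕ, orderOf α = p ^ k}).map (F.autGroup P).subtype

theorem pp_le (P : Subgroup Ω) : pp F p P ≤ F.autGroup P := Subgroup.map_subtype_le _

theorem mem_pp_of_pow {P : Subgroup Ω} {a : MulAut P} (ha : a ∈ F.autGroup P) {k : ℕ} (hk : a ^ p ^ k = 1) :
    a ∈ pp F p P := by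
  obtain ⟨j, -, hj⟩ := (Nat.dvd_prime_pow (Fact.out : p.Prime)).1 (orderOf_dvd_of_pow_eq_one hk)
  exact ⟨⟨a, ha⟩, Subgroup.subset_closure ⟨j, (orderOf_injective (F.autGroup P).subtype
    Subtype.coe_injective ⟨a, ha⟩).symm.trans hj⟩, rfl⟩

theorem autInducedBy_le_pp (hS : IsPGroup p S) {P : Subgroup Ω} (hP : P ≤ S) : autInducedBy S P ≤ pp F p P :=
  fun a ha => by
  obtain ⟨k, hk⟩ := isPGroup_autInducedBy hS P ⟨a, ha⟩
  exact mem_pp_of_pow (autInducedBy_le_autGroup F hP ha) (congrArg Subtype.val hk)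

theorem pp_le_iff {P : Subgroup Ω} {K : Subgroup (MulAut P)} :
    pp F p P ≤ K ↔ ∀ a ∈ F.autGroup P, ∀ k : ℕ, a ^ p ^ k = 1 → a ∈ K := by
  refine ⟨fun h a ha k hk => h (mem_pp_of_pow ha hk), fun h => ?_⟩
  rw [pp, Subgroup.map_le_iff_le_comap, Subgroup.closure_le]
  rintro ⟨a, ha⟩ ⟨k, hk⟩
  exact h a ha k (congrArg Subtype.val (hk ▸ pow_orderOf_eq_one (⟨a, ha⟩ : ↥(F.autGroup P))))

theorem conj_mem_pp {P : Subgroup Ω} {a t : MulAut P} (ha : a ∈ F.autGroup P) (ht : t ∈ pp F p P) :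
    a * t * a⁻¹ ∈ pp F p P := by
  have hle : pp F p P ≤ (pp F p P).comap (MulAut.conj a).toMonoidHom := pp_le_iff.2 fun b hb k hk =>
    mem_pp_of_pow (show MulAut.conj a b ∈ F.autGroup P from mul_mem (mul_mem ha hb) ((F.autGroup P).inv_mem ha))
      (show (MulAut.conj a b) ^ p ^ k = 1 by rw [← map_pow, hk, map_one])
  exact hle ht

theorem congr_mem_pp {P Q : Subgroup Ω} {φ : P →* Ω} (hφ : φ ∈ F.Hom P) (hQ : φ.range = Q) {a : MulAut P}
    (ha : a ∈ pp F p P) : MulAut.congr (homEquiv hφ hQ) a ∈ pp F p Q := by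
  have hle : pp F p P ≤ (pp F p Q).comap (MulAut.congr (homEquiv hφ hQ)).toMonoidHom :=
    pp_le_iff.2 fun b hb k hk => mem_pp_of_pow (congr_mem_autGroup hφ hQ hb)
      (show (MulAut.congr (homEquiv hφ hQ) b) ^ p ^ k = 1 by rw [← map_pow, hk, map_one])
  exact hle ha

/-- Every automorphism is an element of `pp` times one normalising `Aut_S(P)`. -/
theorem exists_frattini (hS : IsPGroup p S) {P : Subgroup Ω} (hP : F.IsFullyAutomized p P) {a : MulAut P}
    (ha : a ∈ F.autGroup P) : ∃ b ∈ F.autGroup P, (∀ t ∈ autInducedBy S P, b * t * b⁻¹ ∈ autInducedBy S P) ∧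
      a * b⁻¹ ∈ pp F p P := by
  haveI := finite_sub hP.1
  haveI := GT.finite_mulAut ↥P
  obtain ⟨R, hR⟩ := hP.2
  have hsyl : ∃ R' : Sylow p (pp F p P), (R' : Subgroup (pp F p P)) = (autInducedBy S P).subgroupOf (pp F p P) := by
    obtain ⟨R', hR'⟩ := ((isPGroup_autInducedBy hS P).of_equiv
      (Subgroup.subgroupOfEquivOfLe (autInducedBy_le_pp (F := F) hS hP.1)).symm).exists_le_sylow
    refine ⟨R', (Subgroup.eq_of_le_of_card_ge hR' ?_).symm⟩
    obtain ⟨c, -, hc⟩ := exists_conj_le_sylow R hR (T := (R' : Subgroup (pp F p P)).map (pp F p P).subtype)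
      ((Subgroup.map_subtype_le _).trans (pp_le P)) (R'.isPGroup'.map _)
    rw [Nat.card_congr (Subgroup.subgroupOfEquivOfLe (autInducedBy_le_pp (F := F) hS hP.1)).toEquiv]
    exact Nat.card_le_card_of_injective (fun r : (R' : Subgroup (pp F p P)) =>
      (⟨c * ((r : pp F p P) : MulAut P) * c⁻¹, hc _ ⟨_, r.2, rfl⟩⟩ : autInducedBy S P)) fun r r' e =>
        Subtype.ext (Subtype.ext (mul_left_cancel (mul_right_cancel (congrArg Subtype.val e :
          c * ((r : pp F p P) : MulAut P) * c⁻¹ = c * ((r' : pp F p P) : MulAut P) * c⁻¹))))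
  obtain ⟨R', hR'⟩ := hsyl
  obtain ⟨o, ho, hoT⟩ := exists_conj_le_sylow R' hR' (T := (autInducedBy S P).map (MulAut.conj a).toMonoidHom)
    (by rintro _ ⟨t, ht, rfl⟩; exact conj_mem_pp ha (autInducedBy_le_pp hS hP.1 ht))
    ((isPGroup_autInducedBy hS P).map _)
  refine ⟨o * a, mul_mem (pp_le P ho) ha, fun t ht => ?_, by simpa using inv_mem ho⟩
  have h1 := hoT _ ⟨t, ht, rfl⟩
  simp only [MulEquiv.coe_toMonoidHom, MulAut.conj_apply] at h1
  rwa [show o * a * t * (o * a)⁻¹ = o * (a * t * a⁻¹) * o⁻¹ by group]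

/-- the system contains the generators -/
def Contains (F : FusionSystem S) (p : ℕ) (D : FusionSystem S) : Prop :=
  ∀ P : Subgroup Ω, F.IsCentric P → F.IsRadical p P → pp F p P ≤ D.autGroup P

/-- The least system containing the generators (inside `F`). -/
def gen0 (F : FusionSystem S) (p : ℕ) : FusionSystem S where
  Hom P := {φ | φ ∈ F.Hom P ∧ ∀ D : FusionSystem S, Contains F p D → φ ∈ D.Hom P}
  le_of_mem h := F.le_of_mem h.1
  injective_of_mem h := F.injective_of_mem h.1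
  conj_mem hP hg := ⟨F.conj_mem hP hg, fun D _ => D.conj_mem hP hg⟩
  comp_mem hφ hψ h := ⟨F.comp_mem hφ.1 hψ.1 h, fun D hD => D.comp_mem (hφ.2 D hD) (hψ.2 D hD) h⟩
  inv_mem := by
    intro P φ hφ
    obtain ⟨ψ, hψ, he⟩ := F.inv_mem hφ.1
    refine ⟨ψ, ⟨hψ, fun D hD => ?_⟩, he⟩
    obtain ⟨ω, hω, he'⟩ := D.inv_mem (hφ.2 D hD)
    refine hom_congr hω ?_
    rintro ⟨_, x, rfl⟩
    rw [he, he']

theorem gen0_le (F : FusionSystem S) (p : ℕ) : (gen0 F p).IsSubsystemOf F := fun _ _ h => h.1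

theorem gen0_least {D : FusionSystem S} (hD : Contains F p D) : (gen0 F p).IsSubsystemOf D :=
  fun _ _ h => h.2 D hD

theorem gen0_contains : Contains F p (gen0 F p) := fun P hP hr a ha =>
  (mem_autGroup hP.1).2 ⟨(mem_autGroup hP.1).1 (pp_le P ha), fun _ hD => (mem_autGroup hP.1).1 (hD P hP hr ha)⟩

theorem isRadical_of_isConj (hS : IsPGroup p S) {P Q : Subgroup Ω} (h : F.IsConj P Q)
    (hP : F.IsRadical p P) : F.IsRadical p Q := by
  have hQS := isConj_le_right h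
  obtain ⟨φ, hφ, hr⟩ := h
  refine ⟨hQS, ?_⟩
  have h1 : (opAut F p P).map (MulAut.congr (homEquiv hφ hr)).toMonoidHom = opAut F p Q := map_opAut hφ hr
  rw [show opAut F p P = Inn P from hP.2] at h1
  refine le_antisymm (fun b hb => ?_) (inn_le_opAut hS hQS)
  obtain ⟨_, ⟨q, rfl⟩, rfl⟩ := h1.ge hb
  refine ⟨homEquiv hφ hr q, MulEquiv.ext fun y => ?_⟩
  show _ = homEquiv hφ hr (MulAut.conj q ((homEquiv hφ hr).symm y))
  simp [MulAut.conj_apply]

theorem gen0_inv (hS : IsPGroup p S) {α : MulAut S} (hα : α ∈ F.autGroup S) : Inv (gen0 F p) α := by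
  intro P hP φ hφ
  have hcont : Contains F p (pull (gen0 F p) α) := by
    intro R hR hrad a ha
    refine (mem_autGroup hR.1).2 ⟨hR.1, fun x => hR.1 (a x).2, ?_⟩
    have hres := autRes_mem hα hR.1
    have hr := autRes_range α hR.1
    have hconj : F.IsConj R (img α R) := ⟨_, hres, hr⟩
    have hc := Cfsg.Agent.Lib.Transfer.FusionLocal.isCentric_of_isConj hconj hR
    have h1 := (mem_autGroup hc.1).1 (gen0_contains _ hc (isRadical_of_isConj hS hconj hrad)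
      (congr_mem_pp hres hr ha))
    refine ⟨_, h1, fun x hx hφx hαx => ?_⟩
    show ((homEquiv hres hr (a ((homEquiv hres hr).symm (homEquiv hres hr x))) : img α R) : Ω) = _
    rw [MulEquiv.symm_apply_apply]
    rfl
  obtain ⟨-, -, χ, hχ, he⟩ := gen0_least hcont P hφ
  exact ⟨χ, hχ, fun x => he x _⟩

end Cfsg.Agent.Lib.FusionP3.Prime
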