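import Cfsg.Agent.Lib.FusionP3.Prime.Saturated
import Cfsg.Agent.Lib.FusionP3.NotCentric

/-!
Characters of order prime to `p` on the automizer of the base of a normal subsystem.
-/

set_option autoImplicit false
set_option linter.style.haveILetI false
set_option linter.unusedSectionVars false

namespace Cfsg.Agent.Lib.FusionP3.Prime

open Cfsg Cfsg.FusionSystem Cfsg.Agent.Lib.FS
open Cfsg.Agent.Lib.FusionP3.Criterion

variable {Ω : Type*} [Group Ω] {S : Subgroup Ω} [Finite S] {p : ℕ} [Fact p.Prime] {F : FusionSystem S}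
variable {T : Subgroup Ω}

/-- A normal subgroup of `Aut_F(T)` containing `Aut_E(T)` and all `p`-elements. -/
structure Kernel (F : FusionSystem S) (p : ℕ) (E : FusionSystem T) (K : Subgroup (MulAut T)) : Prop where
  pGroup : IsPGroup p S
  sat : F.IsSaturated p
  sat' : E.IsSaturated p
  sub : E.IsSubsystemOf F
  closed : F.StronglyClosed T
  inv : ∀ α ∈ F.autGroup T, Inv E α
  frattini : ∀ (P : Subgroup Ω), P ≤ T → ∀ φ : P →* Ω, φ ∈ F.Hom P → Dec (F.autGroup T) E φ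
  le : K ≤ F.autGroup T
  aut_le : E.autGroup T ≤ K
  normal : ∀ α ∈ F.autGroup T, ∀ k ∈ K, α * k * α⁻¹ ∈ K
  pElt : ∀ α ∈ F.autGroup T, ∀ k : ℕ, α ^ p ^ k = 1 → α ∈ K

variable {E : FusionSystem T} {K : Subgroup (MulAut T)}

theorem Kernel.invK (h : Kernel F p E K) : ∀ α ∈ K, Inv E α := fun α hα => h.inv α (h.le hα)

/-- The automorphism of `T` induced by a map on the base. -/
theorem Kernel.exists_res (h : Kernel F p E K) {δ : MulAut S} (hδ : δ ∈ F.autGroup S) :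
    ∃ β ∈ F.autGroup T, ∀ t : T, ((β t : T) : Ω) = ((δ ⟨(t : Ω), h.closed.1 t.2⟩ : S) : Ω) := by
  haveI := finite_sub h.closed.1
  have hm := autRes_mem hδ h.closed.1
  have hr : (autRes δ h.closed.1).range = T := range_eq_of_mem hm (h.closed.2 T le_rfl _ hm) le_rfl
  exact ⟨homEquiv hm hr, homEquiv_mem_autGroup hm hr, fun _ => rfl⟩

theorem Kernel.conj_base (h : Kernel F p E K) {g : Ω} (hg : g ∈ S) :
    ∃ k ∈ K, ∀ t : T, ((k t : T) : Ω) = g * t * g⁻¹ := by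
  haveI := finite_sub h.closed.1
  have hn : g ∈ Subgroup.normalizer (T : Set Ω) := mem_normalizer_of_conj_mem fun x hx =>
    h.closed.2 T le_rfl _ (F.conj_mem h.closed.1 hg) ⟨x, hx⟩
  have hc : (T.normalizerMonoidHom ⟨g, hn⟩ : MulAut T) ∈ autInducedBy S T :=
    mem_autInducedBy.2 ⟨g, hg, fun _ => rfl⟩
  obtain ⟨k, hk⟩ := isPGroup_autInducedBy h.pGroup T ⟨_, hc⟩
  exact ⟨_, h.pElt _ (autInducedBy_le_autGroup F h.closed.1 hc) k (congrArg Subtype.val hk), fun _ => rfl⟩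

theorem Kernel.centric_img (h : Kernel F p E K) {U : Subgroup Ω} (hU : E.IsCentric U) {γ : MulAut T}
    (hγ : γ ∈ F.autGroup T) : E.IsCentric (img γ U) := by
  haveI := finite_sub h.closed.1
  refine ⟨img_le γ U, fun Q hQ => ?_⟩
  obtain ⟨φ, hφ, rfl⟩ := hQ
  obtain ⟨χ, hχ, hχe⟩ := h.inv γ⁻¹ ((F.autGroup T).inv_mem hγ) _ (img_le γ U) φ hφ
  have himg : img γ⁻¹ (img γ U) = U := (autRes_range γ⁻¹ (img_le γ U)).symm.trans (autRes_inv_range hU.1)
  have hconj : E.IsConj U χ.range :=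
    isConj_trans (show E.IsConj U (img γ⁻¹ (img γ U)) by rw [himg]; exact isConj_refl E hU.1) ⟨χ, hχ, rfl⟩
  intro c hc
  obtain ⟨⟨_, ⟨z, hzU, rfl⟩⟩, hz⟩ := hU.2 _ hconj (show ((γ⁻¹ ⟨c, hc.1⟩ : T) : Ω) ∈ centralizerIn T χ.range by
    refine ⟨(γ⁻¹ _).2, ?_⟩
    rintro _ ⟨⟨_, ⟨z, hzU, rfl⟩⟩, rfl⟩
    have h1 := hχe ⟨z, hzU⟩ (apply_mem hφ _) (apply_mem_img γ⁻¹ (img_le γ U) ⟨z, hzU⟩)
    refine (congrArg (fun w => w * _) h1).trans (Eq.trans ?_ (congrArg (fun w => _ * w) h1).symm)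
    have h2 : (⟨φ ⟨z, hzU⟩, apply_mem hφ _⟩ : T) * ⟨c, hc.1⟩ = ⟨c, hc.1⟩ * ⟨φ ⟨z, hzU⟩, apply_mem hφ _⟩ :=
      Subtype.ext (hc.2 _ ⟨_, rfl⟩)
    exact congrArg Subtype.val (((map_mul γ⁻¹ _ _).symm.trans (congrArg _ h2)).trans (map_mul γ⁻¹ _ _)))
  have h1 := (hχe ⟨z, hzU⟩ (apply_mem hφ _) (apply_mem_img γ⁻¹ (img_le γ U) ⟨z, hzU⟩)).symm.trans hz
  exact ⟨⟨z, hzU⟩, congrArg Subtype.val (γ⁻¹.injective (Subtype.ext h1))⟩

theorem Kernel.centric_range (h : Kernel F p E K) {U : Subgroup Ω} (hU : E.IsCentric U) {φ : U →* Ω}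
    (hφ : φ ∈ F.Hom U) : E.IsCentric φ.range := by
  haveI := finite_sub h.closed.1
  obtain ⟨γ, hγ, e, he, hx⟩ := h.frattini U hU.1 φ hφ
  have hc := h.centric_img (Cfsg.Agent.Lib.Transfer.FusionLocal.isCentric_of_isConj
    ⟨e, he, rfl⟩ hU) hγ
  convert hc using 1
  ext y
  constructor
  · rintro ⟨x, rfl⟩
    rw [hx x (apply_mem he x)]
    exact apply_mem_img γ (range_le_base he) ⟨e x, x, rfl⟩
  · rintro ⟨z, ⟨x, hxz⟩, rfl⟩
    exact ⟨x, (hx x (apply_mem he x)).trans (congrArg (fun w => ((γ w : T) : Ω)) (Subtype.ext hxz))⟩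

/-- An automorphism of `p`-power order of a subgroup of `T` is an element of `K` composed with a map of `E`. -/
theorem Kernel.dec_pElt (h : Kernel F p E K) {N : Subgroup Ω} (hN : N ≤ T) {δ : MulAut N}
    (hδ : δ ∈ F.autGroup N) {k : ℕ} (hk : δ ^ p ^ k = 1) : Dec K E (N.subtype.comp δ.toMonoidHom) := by
  obtain ⟨Q, ⟨φ, hφ, hr⟩, ⟨hQS, R, hR⟩, -⟩ := h.sat N (hN.trans h.closed.1)
  haveI := finite_sub hQS
  haveI := GT.finite_mulAut ↥Q
  set δ' := MulAut.congr (homEquiv hφ hr) δ with hδ'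
  obtain ⟨b, hb, hbt⟩ := exists_conj_le_sylow R hR (T := Subgroup.zpowers δ')
    (Subgroup.zpowers_le.2 (congr_mem_autGroup hφ hr hδ))
    (by
      refine (IsPGroup.iff_card).2 ?_
      rw [Nat.card_zpowers]
      obtain ⟨j, -, hj⟩ := (Nat.dvd_prime_pow (Fact.out : p.Prime)).1
        (orderOf_dvd_of_pow_eq_one (show δ' ^ p ^ k = 1 by rw [hδ', ← map_pow, hk, map_one]))
      exact ⟨j, hj⟩)
  obtain ⟨g, hg, hge⟩ := mem_autInducedBy.1 (hbt δ' (Subgroup.mem_zpowers δ'))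
  obtain ⟨τ, hτ, -, hτe⟩ := exists_hom_of_aut hQS hb
  obtain ⟨θ, hθ, hθe⟩ := exists_comp hφ hτ fun x => hr.le ⟨x, rfl⟩
  have hθδ : ∀ x : N, θ (δ x) = g * θ x * g⁻¹ := fun x => by
    rw [hθe, hτe, hθe, hτe]
    refine Eq.trans ?_ (hge _)
    rw [MulAut.mul_apply, MulAut.mul_apply, MulAut.inv_apply_self]
    refine congrArg (fun z => ((b z : Q) : Ω)) (Subtype.ext ?_)
    show φ (δ x) = φ (δ ((homEquiv hφ hr).symm (homEquiv hφ hr x)))
    rw [MulEquiv.symm_apply_apply]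
  obtain ⟨γ, hγ, e, he, hγe⟩ := h.frattini N hN θ hθ
  obtain ⟨c, hc, hce⟩ := h.conj_base hg
  have hc' : γ⁻¹ * c * γ ∈ K := by
    simpa using h.normal γ⁻¹ ((F.autGroup T).inv_mem hγ) c hc
  obtain ⟨η, hη, -, hηl, -⟩ := exists_inv he rfl
  have key : ∀ x : N, e (δ x) = (((γ⁻¹ * c * γ) ⟨e x, apply_mem he x⟩ : T) : Ω) := fun x => by
    have h1 : γ ⟨e (δ x), apply_mem he _⟩ = c (γ ⟨e x, apply_mem he x⟩) := by
      apply Subtype.ext
      rw [← hγe, hθδ, hce, hγe x (apply_mem he x)]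
    rw [MulAut.mul_apply, MulAut.mul_apply, ← h1, MulAut.inv_apply_self]
  let φ₁ : N →* Ω := e.comp δ.toMonoidHom
  have h1 : Dec K E φ₁ := ⟨_, hc', e, he, fun x _ => key x⟩
  refine Dec.comp h.invK h1 (Dec.of_mem hη) (fun x => ⟨δ x, rfl⟩) fun x => ?_
  exact (hηl (δ x) ⟨_, rfl⟩).symm

/-- An element of `Aut_F(T)` restricting to a map of `E` on an `E`-centric subgroup lies in `K`. -/
theorem Kernel.mem_of_res (h : Kernel F p E K) {U : Subgroup Ω} (hU : E.IsCentric U) {γ : MulAut T}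
    (hγ : γ ∈ F.autGroup T) (hm : autRes γ hU.1 ∈ E.Hom U) : γ ∈ K := by
  haveI := finite_sub h.closed.1
  have hTp : IsPGroup p T := h.pGroup.to_le h.closed.1
  suffices key : ∀ (d : ℕ) (U : Subgroup Ω) (hU : E.IsCentric U), Nat.card T - Nat.card U ≤ d →
      ∀ γ ∈ F.autGroup T, autRes γ hU.1 ∈ E.Hom U → γ ∈ K from key _ U hU le_rfl γ hγ hm
  intro d
  induction d using Nat.strong_induction_on with
  | _ d ih =>
    intro U hU hd γ hγ hm
    rcases hU.1.lt_or_eq with hlt | heq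
    swap
    · subst heq; exact h.aut_le (mem_autGroup_of_hom hm fun _ => rfl)
    set N := normalizerIn T U with hNdef
    have hNT : N ≤ T := normalizerIn_le U
    haveI := finite_sub hNT
    have hUN : U ≤ N := le_normalizerIn hU.1
    have hr := autRes_range γ hU.1
    obtain ⟨ψ₀, hψ₀, hψ₀e⟩ := (receptive_of_fullyCentralized hTp h.sat'
      (FusionEssential.Centric.fullyCentralized_of_centric (h.centric_img hU hγ))).2 U _ hm hr
    obtain ⟨ψ, hψ, hψe⟩ := exists_restrict hψ₀ (show N ≤ extender T U (autRes γ hU.1) from fun g hg =>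
      mem_extender_of hg (γ ⟨g, hNT hg⟩).2 fun x hx => by
        rw [autRes_apply, autRes_apply, show (⟨g * (x : Ω) * g⁻¹, hU.1 hx⟩ : T) =
          ⟨g, hNT hg⟩ * ⟨x, hU.1 x.2⟩ * ⟨g, hNT hg⟩⁻¹ from Subtype.ext rfl, map_mul, map_mul, map_inv]
        rfl)
    have hψU : (U.subgroupOf N).map ψ = img γ U := by
      rw [← hr]
      ext y
      constructor
      · rintro ⟨x, hx, rfl⟩
        exact ⟨⟨x, hx⟩, ((hψe x).trans (hψ₀e x hx _)).symm⟩
      · rintro ⟨x, rfl⟩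
        exact ⟨⟨x, hUN x.2⟩, x.2, (hψe _).trans (hψ₀e x x.2 _)⟩
    -- `δ = γ⁻¹ ψ`
    let δm : N →* Ω := (autRes γ⁻¹ (le_refl T)).comp (ψ.codRestrict T (apply_mem hψ))
    have hδm : δm ∈ F.Hom N :=
      mem_comp (h.sub N hψ) ((mem_autGroup h.closed.1).1 ((F.autGroup T).inv_mem hγ)) (apply_mem hψ) fun _ => rfl
    have hUeq : img γ⁻¹ (img γ U) = U := (autRes_range γ⁻¹ (img_le γ U)).symm.trans (autRes_inv_range hU.1)
    have hδN : ∀ x, δm x ∈ N := fun x => by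
      haveI := finite_sub hU.1
      refine ⟨(γ⁻¹ _).2, mem_normalizer_of_conj_mem fun u hu => ?_⟩
      obtain ⟨y, hy, hyu⟩ := hψU.ge (apply_mem_img γ hU.1 ⟨u, hu⟩)
      have hu' : u = δm y := by
        show u = ((γ⁻¹ ⟨ψ y, apply_mem hψ y⟩ : T) : Ω)
        rw [show (⟨ψ y, apply_mem hψ y⟩ : T) = γ ⟨u, hU.1 hu⟩ from Subtype.ext hyu, MulAut.inv_apply_self]
      rw [hu', ← map_inv, ← map_mul, ← map_mul]
      have hz : ψ (x * y * x⁻¹) ∈ img γ U := hψU.le ⟨_, (show ((x * y * x⁻¹ : N) : Ω) ∈ U from conj_mem_of_normalizer x.2.2 hy), rfl⟩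
      exact hUeq.le (apply_mem_img γ⁻¹ (img_le γ U) ⟨_, hz⟩)
    have hδr : δm.range = N := range_eq_of_mem hδm hδN le_rfl
    set δ : MulAut N := homEquiv hδm hδr with hδdef
    have hδU : ∀ x : N, (x : Ω) ∈ U → δ x = x := fun x hx => by
      apply Subtype.ext
      show ((γ⁻¹ ⟨ψ x, apply_mem hψ x⟩ : T) : Ω) = x
      rw [show (⟨ψ x, apply_mem hψ x⟩ : T) = γ ⟨x, hU.1 hx⟩ from
        Subtype.ext ((hψe x).trans (hψ₀e x hx _)), MulAut.inv_apply_self]
    obtain ⟨a, ha⟩ := (IsPGroup.iff_card).1 hTp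
    have hδpow : δ ^ p ^ a = 1 := by
      refine MulEquiv.ext fun x => ?_
      set z : N := x⁻¹ * δ x with hz
      have hzU : (z : Ω) ∈ U := by
        refine hU.2 U (isConj_refl E hU.1) (mem_centralizerIn'.2 ⟨hNT z.2, fun u hu => ?_⟩)
        have hxu : (x : Ω) * u * (x : Ω)⁻¹ ∈ U := conj_mem_of_normalizer x.2.2 hu
        have h1 := hδU ⟨_, hUN hxu⟩ hxu
        rw [show (⟨(x : Ω) * u * (x : Ω)⁻¹, hUN hxu⟩ : N) = x * ⟨u, hUN hu⟩ * x⁻¹ from Subtype.ext rfl,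
          map_mul, map_mul, map_inv, hδU _ (show ((⟨u, hUN hu⟩ : N) : Ω) ∈ U from hu)] at h1
        have h2 := congrArg (Subtype.val : N → Ω) h1
        simp only [Subgroup.coe_mul, Subgroup.coe_inv] at h2
        simp only [hz, Subgroup.coe_mul, Subgroup.coe_inv]
        calc (x : Ω)⁻¹ * (δ x : N) * u * ((x : Ω)⁻¹ * (δ x : N))⁻¹
            = (x : Ω)⁻¹ * (((δ x : N) : Ω) * u * ((δ x : N) : Ω)⁻¹) * x := by group
          _ = u := by rw [h2]; group
      have hn : ∀ n : ℕ, (δ ^ n) x = x * z ^ n := fun n => by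
        induction n with
        | zero => simp
        | succ n ihn =>
          rw [pow_succ', MulAut.mul_apply, ihn, map_mul, map_pow, hδU z hzU,
            show δ x = x * z from by rw [hz]; group, mul_assoc, ← pow_succ']
      rw [hn, MulAut.one_apply]
      have hzT : (⟨(z : Ω), hNT z.2⟩ : T) ^ p ^ a = 1 := ha ▸ pow_card_eq_one'
      have hz1 : z ^ p ^ a = 1 := Subtype.ext (congrArg (Subtype.val : T → Ω) hzT)
      rw [hz1, mul_one]
    have hdec : Dec K E (N.subtype.comp (δ⁻¹ : MulAut N).toMonoidHom) :=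
      h.dec_pElt hNT ((F.autGroup N).inv_mem (homEquiv_mem_autGroup hδm hδr))
        (show δ⁻¹ ^ p ^ a = 1 by rw [inv_pow, hδpow, inv_one])
    have hdec' : Dec K E (autRes γ hNT) :=
      Dec.comp h.invK hdec (Dec.of_mem hψ) (fun x => (δ⁻¹ x).2) fun x => by
        have h1 : ((δ (δ⁻¹ x) : N) : Ω) = ((γ⁻¹ ⟨ψ (δ⁻¹ x), apply_mem hψ _⟩ : T) : Ω) := rfl
        rw [MulAut.apply_inv_self] at h1
        rw [autRes_apply, show (⟨(x : Ω), hNT x.2⟩ : T) = γ⁻¹ ⟨ψ (δ⁻¹ x), apply_mem hψ _⟩ from Subtype.ext h1,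
          MulAut.apply_inv_self]
        rfl
    obtain ⟨k, hk, e, he, hke⟩ := hdec'
    have hNc := FusionEssential.Centric.isCentric_overgroup hU hUN hNT
    have hlt' := Induction.lt_normalizerIn hTp hlt
    have hcard : Nat.card U < Nat.card N :=
      lt_of_not_ge fun he => hlt'.ne (Subgroup.eq_of_le_of_card_ge hUN he)
    have := Subgroup.card_le_of_le hNT
    have h1 : k⁻¹ * γ ∈ K := ih (Nat.card T - Nat.card N) (by omega) N hNc le_rfl _
      (mul_mem ((F.autGroup T).inv_mem (h.le hk)) hγ) (hom_congr he fun x => by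
        rw [autRes_apply, MulAut.mul_apply, show γ ⟨(x : Ω), hNT x.2⟩ = k ⟨e x, apply_mem he x⟩ from
          Subtype.ext (hke x _), MulAut.inv_apply_self])
    simpa using mul_mem hk h1

/-- The maps whose restrictions to `E`-centric subgroups factor through `K`. -/
def trivialSystem (h : Kernel F p E K) : FusionSystem S where
  Hom P := {φ | φ ∈ F.Hom P ∧ ∀ U, E.IsCentric U → ∀ hU : U ≤ P, Dec K E (φ.comp (Subgroup.inclusion hU))}
  le_of_mem hφ := F.le_of_mem hφ.1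
  injective_of_mem hφ := F.injective_of_mem hφ.1
  conj_mem hP hg := ⟨F.conj_mem hP hg, fun U hU hle => by
    obtain ⟨k, hk, hke⟩ := h.conj_base hg
    exact Dec.of_aut hk hU.1 fun x => (hke ⟨(x : Ω), hU.1 x.2⟩).symm⟩
  comp_mem := by
    intro P Q φ ψ hφ hψ hm
    refine ⟨F.comp_mem hφ.1 hψ.1 hm, fun U hU hle => ?_⟩
    have hres := restrict_mem hφ.1 hle
    have hsub : (φ.comp (Subgroup.inclusion hle)).range ≤ Q := by rintro _ ⟨x, rfl⟩; exact hm _
    exact Dec.comp h.invK (hφ.2 U hU hle) (hψ.2 _ (h.centric_range hU hres) hsub) (fun x => ⟨x, rfl⟩)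
      fun _ => rfl
  inv_mem := by
    intro P φ hφ
    obtain ⟨ψ, hψ, hψe⟩ := F.inv_mem hφ.1
    refine ⟨ψ, ⟨hψ, fun U hU hle => ?_⟩, hψe⟩
    have hres := restrict_mem hψ hle
    set χ := ψ.comp (Subgroup.inclusion hle) with hχ
    have hV : χ.range ≤ P := by
      rintro _ ⟨x, rfl⟩
      obtain ⟨y, hy⟩ := hle x.2
      rw [hχ, MonoidHom.comp_apply, show Subgroup.inclusion hle x = ⟨φ y, y, rfl⟩ from Subtype.ext hy.symm, hψe]
      exact y.2
    obtain ⟨ω, hω, hωe⟩ := Dec.inv h.invK (hφ.2 _ (h.centric_range hU hres) hV)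
    have hval : ∀ x : U, φ ⟨χ x, hV ⟨x, rfl⟩⟩ = x := fun x => by
      obtain ⟨y, hy⟩ := hle x.2
      have h1 : χ x = y := by
        rw [hχ, MonoidHom.comp_apply, show Subgroup.inclusion hle x = ⟨φ y, y, rfl⟩ from Subtype.ext hy.symm, hψe]
      rw [show (⟨χ x, hV ⟨x, rfl⟩⟩ : P) = y from Subtype.ext h1, hy]
    refine hω.restrict (χ := χ) (fun x hx => ⟨⟨χ ⟨x, hx⟩, _, rfl⟩, hval ⟨x, hx⟩⟩) fun x => ?_
    exact (hωe ⟨χ x, x, rfl⟩).symm.trans (congrArg ω (Subtype.ext (hval x)))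

end Cfsg.Agent.Lib.FusionP3.Prime
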