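import Cfsg.Agent.Lib.FusionP3.Prime.Character

/-!
The normal subsystem cut out by a character of order prime to `p`.
-/

set_option autoImplicit false
set_option linter.style.haveILetI false
set_option linter.unusedSectionVars false

namespace Cfsg.Agent.Lib.FusionP3.Prime

open Cfsg Cfsg.FusionSystem Cfsg.Agent.Lib.FS
open Cfsg.Agent.Lib.FusionP3.Criterion

variable {Ω : Type*} [Group Ω] {S : Subgroup Ω} [Finite S] {p : ℕ} [Fact p.Prime] {F : FusionSystem S}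
variable {T : Subgroup Ω} {E : FusionSystem T} {K : Subgroup (MulAut T)}

theorem mem_of_apply_stronglyClosed (hT : F.StronglyClosed T) {P : Subgroup Ω} {φ : P →* Ω} (hφ : φ ∈ F.Hom P)
    (x : P) (hx : φ x ∈ T) : (x : Ω) ∈ T := by
  obtain ⟨η, hη, -, hl, -⟩ := exists_inv hφ rfl
  have h1 := FusionP3.StronglyClosed.apply_mem_of_stronglyClosed hT hη ⟨φ x, x, rfl⟩ hx
  rwa [hl x ⟨x, rfl⟩] at h1

/-- The family of the centric subgroups meeting `T` in an `E`-centric subgroup. -/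
def famSet (F : FusionSystem S) (E : FusionSystem T) : Set (Subgroup Ω) :=
  {P | F.IsCentric P ∧ E.IsCentric (P ⊓ T)}

theorem exists_not_le_of_not_centric {U : Subgroup Ω} (hU : U ≤ T) (h : ¬ E.IsCentric U) :
    ∃ R, E.IsConj U R ∧ ¬ centralizerIn T R ≤ R := by
  by_contra h'
  push Not at h'
  exact h ⟨hU, h'⟩

theorem Kernel.fam (h : Kernel F p E K) : Fam F p (famSet F E) where
  centric _ hP := hP.1
  conj := by
    intro P hP Q hQ
    refine ⟨Cfsg.Agent.Lib.Transfer.FusionLocal.isCentric_of_isConj hQ hP.1, ?_⟩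
    obtain ⟨φ, hφ, rfl⟩ := hQ
    obtain ⟨χ, hχ, hχe⟩ := exists_restrict hφ (inf_le_left : P ⊓ T ≤ P)
    have hc := h.centric_range hP.2 hχ
    convert hc using 1
    ext y
    constructor
    · rintro ⟨⟨x, rfl⟩, hy⟩
      exact ⟨⟨x, x.2, mem_of_apply_stronglyClosed h.closed hφ x hy⟩, hχe _⟩
    · rintro ⟨x, rfl⟩
      rw [hχe]
      exact ⟨⟨_, rfl⟩, FusionP3.StronglyClosed.apply_mem_of_stronglyClosed h.closed hφ _ x.2.2⟩
  base := by
    haveI := finite_sub h.closed.1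
    refine ⟨(fam_centric (F := F) (p := p)).base, ?_⟩
    rw [inf_eq_right.2 h.closed.1]
    exact (fam_centric (F := E) (p := p)).base
  radical := by
    intro P hP hr
    refine ⟨hP, by_contra fun hc => ?_⟩
    obtain ⟨R, ⟨φ, hφ, hr'⟩, hR⟩ := exists_not_le_of_not_centric inf_le_right hc
    exact (NotCentric.mem_pCore_and_not_radical h.pGroup h.sat h.closed hP ⟨φ, h.sub _ hφ, hr'⟩ hR).2 hr
  outside := by
    intro P hP hn
    obtain ⟨R, ⟨φ, hφ, hr⟩, hR⟩ := exists_not_le_of_not_centric inf_le_right fun hc => hn ⟨hP, hc⟩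
    obtain ⟨⟨ψ, hψ, x, hx, hxn, α, hα, hαe⟩, -⟩ :=
      NotCentric.mem_pCore_and_not_radical h.pGroup h.sat h.closed hP ⟨φ, h.sub _ hφ, hr⟩ hR
    exact ⟨ψ.range, ⟨ψ, hψ, rfl⟩, x, hx.1, ⟨hx, α, hα, hαe⟩, hxn⟩

/-- The automorphisms of `S` restricting into `K`. -/
def resInto (hTS : T ≤ S) (F : FusionSystem S) (K : Subgroup (MulAut T)) : Subgroup (MulAut S) where
  carrier := {α | α ∈ F.autGroup S ∧ ∃ β ∈ K, ∀ t : T, ((β t : T) : Ω) = ((α ⟨(t : Ω), hTS t.2⟩ : S) : Ω)}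
  one_mem' := ⟨one_mem _, 1, one_mem _, fun _ => rfl⟩
  mul_mem' := by
    rintro a b ⟨ha, u, hu, hua⟩ ⟨hb, v, hv, hvb⟩
    refine ⟨(F.autGroup S).mul_mem ha hb, u * v, K.mul_mem hu hv, fun t => ?_⟩
    rw [MulAut.mul_apply, MulAut.mul_apply, hua]
    exact congrArg (fun z => ((a z : S) : Ω)) (Subtype.ext (hvb t))
  inv_mem' := by
    rintro a ⟨ha, u, hu, hua⟩
    refine ⟨(F.autGroup S).inv_mem ha, u⁻¹, K.inv_mem hu, fun t => ?_⟩
    have h1 := hua (u⁻¹ t)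
    rw [MulAut.apply_inv_self] at h1
    have h2 : a ⟨((u⁻¹ t : T) : Ω), hTS (u⁻¹ t).2⟩ = ⟨(t : Ω), hTS t.2⟩ := Subtype.ext h1.symm
    rw [← h2, MulAut.inv_apply_self]

theorem resInto_le (hTS : T ≤ S) : resInto hTS F K ≤ F.autGroup S := fun _ h => h.1

theorem Kernel.gen0_sub (h : Kernel F p E K) : (gen0 F p).IsSubsystemOf (trivialSystem h) := by
  refine gen0_least fun P hP hr => pp_le_iff.2 fun a ha k hk => (mem_autGroup hP.1).2 ⟨(mem_autGroup hP.1).1 ha,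
    fun U hU hle => ?_⟩
  haveI := finite_sub hP.1
  have hW : E.IsCentric (P ⊓ T) := (h.fam.radical P hP hr).2
  obtain ⟨φ, hφ, -, hφe⟩ := exists_hom_of_aut hP.1 ha
  have hap : a ∈ GT.preserve (P ⊓ T) P := fun x => by
    refine ⟨fun hx => ⟨(a x).2, hφe x ▸ FusionP3.StronglyClosed.apply_mem_of_stronglyClosed h.closed hφ x hx.2⟩,
      fun hx => ⟨x.2, mem_of_apply_stronglyClosed h.closed hφ x (by rw [hφe]; exact hx.2)⟩⟩
  have hδ : GT.res (inf_le_left : P ⊓ T ≤ P) ⟨a, hap⟩ ∈ F.autGroup (P ⊓ T) :=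
    GT.res_mem_autGroup _ hP.1 ha
  have hδk : (GT.res (inf_le_left : P ⊓ T ≤ P) ⟨a, hap⟩) ^ p ^ k = 1 := by
    rw [← map_pow, show (⟨a, hap⟩ : GT.preserve (P ⊓ T) P) ^ p ^ k = 1 from Subtype.ext hk, map_one]
  exact (h.dec_pElt inf_le_right hδ hδk).restrict (le_inf hle hU.1) fun x => rfl

theorem Kernel.agree_mem (h : Kernel F p E K) {δ : MulAut S} (hδ : δ ∈ F.autGroup S) {P : Subgroup Ω}
    (hP : P ∈ famSet F E) (hPS : P ≤ S) (hm : autRes δ hPS ∈ (gen0 F p).Hom P) :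
    δ ∈ resInto h.closed.1 F K := by
  obtain ⟨β, hβ, hβe⟩ := h.exists_res hδ
  obtain ⟨k, hk, e, he, hke⟩ := (h.gen0_sub P hm).2 (P ⊓ T) hP.2 inf_le_left
  have h1 : k⁻¹ * β ∈ K := h.mem_of_res hP.2 ((F.autGroup T).mul_mem ((F.autGroup T).inv_mem (h.le hk)) hβ)
    (hom_congr he fun x => by
      have h2 : β ⟨(x : Ω), x.2.2⟩ = k ⟨e x, apply_mem he x⟩ := by
        apply Subtype.ext
        rw [hβe, ← hke x (apply_mem he x)]
        rfl
      rw [autRes_apply, MulAut.mul_apply, h2, MulAut.inv_apply_self])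
  exact ⟨hδ, β, by simpa using K.mul_mem hk h1, hβe⟩

/-- The subsystem cut out by `K`. -/
def Kernel.sys (h : Kernel F p E K) : FusionSystem S :=
  twisted (p := p) h.pGroup F (resInto h.closed.1 F K) (resInto_le h.closed.1)

theorem Kernel.sys_saturated (h : Kernel F p E K) : h.sys.IsSaturated p :=
  twisted_saturated h.pGroup h.sat h.fam _ fun _ hδ _ hP hPS hm => h.agree_mem hδ hP hPS hm

theorem Kernel.sys_index (h : Kernel F p E K) : h.sys.HasPrimeToPIndexIn F p :=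
  twisted_index h.pGroup h.sat _

theorem Kernel.sys_autGroup (h : Kernel F p E K) {α : MulAut S} :
    α ∈ h.sys.autGroup S ↔ α ∈ resInto h.closed.1 F K := by
  refine ⟨fun hα => ?_, fun hα => mem_twisted_autGroup_base h.pGroup _ hα⟩
  obtain ⟨hαF, γ, hγ, e, he, hx⟩ := (mem_autGroup le_rfl).1 hα
  have h1 : γ⁻¹ * α ∈ resInto h.closed.1 F K :=
    h.agree_mem ((F.autGroup S).mul_mem ((F.autGroup S).inv_mem hγ.1) ((mem_autGroup le_rfl).2 hαF))
      h.fam.base le_rfl (hom_congr he fun x => by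
        rw [autRes_apply, MulAut.mul_apply, show α ⟨(x : Ω), x.2⟩ = γ ⟨e x, apply_mem he x⟩ from
          Subtype.ext (hx x _), MulAut.inv_apply_self])
  simpa using mul_mem hγ h1

/-- Every element of `Aut_F(T)` is, up to `pp`, a restriction from `S`. -/
theorem Kernel.exists_ext (h : Kernel F p E K) {β : MulAut T} (hβ : β ∈ F.autGroup T) :
    ∃ δ ∈ F.autGroup S, ∃ b ∈ F.autGroup T,
      (∀ t : T, ((b t : T) : Ω) = ((δ ⟨(t : Ω), h.closed.1 t.2⟩ : S) : Ω)) ∧ β * b⁻¹ ∈ pp F p T := by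
  haveI := finite_sub h.closed.1
  have hN : normalizerIn S T = S := inf_eq_left.2 fun g hg => mem_normalizer_of_conj_mem fun x hx =>
    h.closed.2 T le_rfl _ (F.conj_mem h.closed.1 hg) ⟨x, hx⟩
  have hfn : F.IsFullyNormalized T := ⟨h.closed.1, fun Q _ => by
    rw [hN]; exact Subgroup.card_le_of_le (normalizerIn_le Q)⟩
  obtain ⟨b, hb, hbn, hβb⟩ := exists_frattini h.pGroup (fullyAutomized_of_fullyNormalized h.pGroup h.sat hfn) hβ
  obtain ⟨ψ, hψ, hψe⟩ :=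
    Induction.exists_extend_preimage (receptive_of_fullyNormalized h.pGroup h.sat hfn) le_rfl hb hbn
  have hle : S ≤ Induction.preimageAut S T (autInducedBy S T) := fun g hg =>
    have hgN : g ∈ normalizerIn S T := hN.ge hg
    ⟨hgN, T.normalizerMonoidHom ⟨g, hgN.2⟩, mem_autInducedBy.2 ⟨g, hg, fun _ => rfl⟩, fun _ => rfl⟩
  obtain ⟨ψ', hψ', hψ'e⟩ := exists_restrict hψ hle
  have hr : ψ'.range = S := range_eq_of_mem hψ' (apply_mem hψ') le_rfl
  refine ⟨homEquiv hψ' hr, homEquiv_mem_autGroup hψ' hr, b, hb, fun t => ?_, hβb⟩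
  show _ = ψ' _
  rw [hψ'e, hψe t t.2 _]

theorem Kernel.pp_le_K (h : Kernel F p E K) : pp F p T ≤ K := pp_le_iff.2 h.pElt

theorem Kernel.sys_proper (h : Kernel F p E K) (hK : ∃ β ∈ F.autGroup T, β ∉ K) :
    ¬ ∀ P : Subgroup Ω, h.sys.Hom P = F.Hom P := fun heq => by
  obtain ⟨β, hβ, hβK⟩ := hK
  obtain ⟨δ, hδ, b, -, hbe, hβb⟩ := h.exists_ext hβ
  have h1 : δ ∈ h.sys.autGroup S := (mem_autGroup le_rfl).2 (heq S ▸ (mem_autGroup le_rfl).1 hδ)
  obtain ⟨-, u, hu, hue⟩ := h.sys_autGroup.1 h1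
  have h2 : u = b := MulEquiv.ext fun t => Subtype.ext ((hue t).trans (hbe t).symm)
  exact hβK (by simpa using K.mul_mem (h.pp_le_K hβb) (h2 ▸ hu : b ∈ K))

theorem Kernel.sub_sys (h : Kernel F p E K) : E.IsSubsystemOf h.sys := by
  haveI := finite_sub h.closed.1
  have hTp : IsPGroup p T := h.pGroup.to_le h.closed.1
  have hgen : (gen0 F p).IsSubsystemOf h.sys := gen0_le_twisted h.pGroup _
  intro P φ hφ
  refine Induction.hom_induction hTp h.sat' (M := fun P φ => φ ∈ h.sys.Hom P)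
    (fun P Q φ ψ χ _ _ hm he h₁ h₂ => mem_comp h₁ h₂ hm he)
    (fun P Q φ ψ hle _ he h₁ => mem_of_restrict h₁ hle he) ?_ P φ hφ
  intro Q hQn _ _ a ha big
  have hQS : Q ≤ S := hQn.1.trans h.closed.1
  haveI := finite_sub hQn.1
  have hpp : pp E p Q ≤ h.sys.autGroup Q := pp_le_iff.2 fun o ho k hk =>
    GT.autGroup_mono hgen hQS (gen0_index h.pGroup h.sat hQS
      (mem_pp_of_pow (GT.autGroup_mono h.sub hQn.1 ho) hk))
  rcases hQn.1.lt_or_eq with hlt | heq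
  · obtain ⟨b, hb, hbn, hab⟩ := exists_frattini hTp (fullyAutomized_of_fullyNormalized hTp h.sat' hQn) ha
    obtain ⟨ψ, hψ, hψe⟩ := Induction.exists_extend_preimage (receptive_of_fullyNormalized hTp h.sat' hQn) le_rfl hb hbn
    have hN : normalizerIn T Q ≤ Induction.preimageAut T Q (autInducedBy T Q) := fun g hg =>
      ⟨hg, Q.normalizerMonoidHom ⟨g, hg.2⟩, mem_autInducedBy.2 ⟨g, hg.1, fun _ => rfl⟩, fun _ => rfl⟩
    have hlt' := (Induction.lt_normalizerIn hTp hlt).trans_le hN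
    haveI := finite_sub (src_le hψ)
    have h1 : Q.subtype.comp b.toMonoidHom ∈ h.sys.Hom Q :=
      mem_of_restrict (big _ (lt_of_not_ge fun h => hlt'.ne (Subgroup.eq_of_le_of_card_ge hlt'.le h)) ψ hψ)
        hlt'.le fun x => (hψe x x.2 _).symm
    refine mem_comp h1 ((mem_autGroup hQS).1 (hpp hab)) (fun x => (b x).2) fun x => ?_
    show ((a x : Q) : Ω) = (((a * b⁻¹) (b x) : Q) : Ω)
    rw [MulAut.mul_apply, MulAut.inv_apply_self]
  · subst heq
    have haK : a ∈ K := h.aut_le ha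
    obtain ⟨δ, hδ, b, -, hbe, hab⟩ := h.exists_ext (h.le haK)
    have hbK : b ∈ K := by simpa using K.mul_mem (K.inv_mem (h.pp_le_K hab)) haK
    have hδm := (mem_autGroup le_rfl).1 (h.sys_autGroup.2 (⟨hδ, b, hbK, hbe⟩ : δ ∈ resInto h.closed.1 F K))
    have h1 : Q.subtype.comp b.toMonoidHom ∈ h.sys.Hom Q :=
      mem_of_restrict hδm hQS fun t => (hbe t).trans rfl
    have h2 : (a * b⁻¹ : MulAut Q) ∈ h.sys.autGroup Q :=
      GT.autGroup_mono hgen hQS (gen0_index h.pGroup h.sat hQS hab)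
    refine mem_comp h1 ((mem_autGroup hQS).1 h2) (fun x => (b x).2) fun x => ?_
    show ((a x : Q) : Ω) = (((a * b⁻¹) (b x) : Q) : Ω)
    rw [MulAut.mul_apply, MulAut.inv_apply_self]

theorem Kernel.sys_normal (h : Kernel F p E K) : h.sys.IsNormalIn F p := by
  have hgen : (gen0 F p).IsSubsystemOf h.sys := gen0_le_twisted h.pGroup _
  refine ⟨⟨h.sys_saturated, h.sat, h.sys_index.1, ⟨le_rfl, fun R _ φ hφ => apply_mem hφ⟩, ?_, ?_⟩, ?_⟩
  · intro P hP φ hφ α hα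
    obtain ⟨-, γ, ⟨hγ, u, hu, hue⟩, e, he, hx⟩ := hφ
    obtain ⟨β, hβ, hβe⟩ := h.exists_res hα
    obtain ⟨χ₀, hχ₀, hχ₀e⟩ := gen0_inv h.pGroup hα P hP e he
    have hγ' : α * γ * α⁻¹ ∈ resInto h.closed.1 F K := by
      refine ⟨(F.autGroup S).mul_mem ((F.autGroup S).mul_mem hα hγ) ((F.autGroup S).inv_mem hα),
        β * u * β⁻¹, h.normal β hβ u hu, fun t => ?_⟩
      obtain ⟨s, rfl⟩ := β.surjective t
      rw [MulAut.mul_apply, MulAut.mul_apply, MulAut.inv_apply_self, hβe,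
        show (⟨((β s : T) : Ω), h.closed.1 (β s).2⟩ : S) = α ⟨(s : Ω), h.closed.1 s.2⟩ from Subtype.ext (hβe s),
        MulAut.mul_apply, MulAut.mul_apply, MulAut.inv_apply_self]
      exact congrArg (fun z => ((α z : S) : Ω)) (Subtype.ext (hue s))
    let χ : img α P →* Ω := (autRes (α * γ * α⁻¹) le_rfl).comp (χ₀.codRestrict S (apply_mem hχ₀))
    refine ⟨χ, ⟨mem_of_dec (gen0_le F p) hγ'.1 hχ₀ fun y _ => rfl, _, hγ', χ₀, hχ₀, fun y _ => rfl⟩,
      fun x hφx hαx => ?_⟩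
    refine ((congrArg (fun z => (((α * γ * α⁻¹) z : S) : Ω)) (Subtype.ext (hχ₀e x (apply_mem he x) hαx) :
      (⟨χ₀ ⟨_, hαx⟩, apply_mem hχ₀ _⟩ : S) = α ⟨e x, apply_mem he x⟩))).trans ?_
    rw [MulAut.mul_apply, MulAut.mul_apply, MulAut.inv_apply_self]
    exact congrArg (fun z => ((α z : S) : Ω)) (Subtype.ext (hx x _).symm)
  · intro P hP φ hφ
    obtain ⟨α, hα, e, he, hx⟩ := dec_of_mem h.pGroup h.sat hφ
    exact ⟨α, hα, e, hgen P he, hx⟩
  · intro α hα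
    have hX : S ⊔ centralizerIn S S ≤ S := sup_le le_rfl (centralizerIn_le S)
    haveI := finite_sub hX
    obtain ⟨φ, hφ, -, hφe⟩ := exists_hom_of_aut le_rfl ((sys_autGroup h).1 hα).1
    obtain ⟨ψ, hψ, hψe⟩ := exists_restrict hφ hX
    have hr : ψ.range = S ⊔ centralizerIn S S := by
      refine range_eq_of_mem hψ (fun x => Subgroup.mem_sup_left ?_) le_rfl
      exact apply_mem hψ x
    refine ⟨homEquiv hψ hr, homEquiv_mem_autGroup hψ hr, fun x => ?_, fun c hc => ?_⟩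
    · rw [homEquiv_coe, hψe, hφe]
      rfl
    · rw [homEquiv_coe, hψe, hφe]
      refine ⟨S.mul_mem (S.inv_mem hc.1) (α _).2, ?_⟩
      refine (Subgroup.centralizer (S : Set Ω)).mul_mem ((Subgroup.centralizer (S : Set Ω)).inv_mem hc.2) fun y hy => ?_
      obtain ⟨z, hz⟩ := α.surjective ⟨y, hy⟩
      have h1 : y = ((α z : S) : Ω) := congrArg Subtype.val hz.symm
      rw [h1, ← Subgroup.coe_mul, ← Subgroup.coe_mul, ← map_mul, ← map_mul]
      exact congrArg (fun w => ((α w : S) : Ω)) (Subtype.ext (hc.2 (z : Ω) z.2))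

end Cfsg.Agent.Lib.FusionP3.Prime
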