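import Cfsg.Agent.Lib.FusionP3.Prime.Basic

/-!
Every map is an automorphism of `S` composed with a map of the generated system, which has index prime to `p`.
-/

set_option autoImplicit false
set_option linter.style.haveILetI false
set_option linter.unusedSectionVars false

namespace Cfsg.Agent.Lib.FusionP3.Prime

open Cfsg Cfsg.FusionSystem Cfsg.Agent.Lib.FS
open Cfsg.Agent.Lib.FusionP3.Criterion

variable {Ω : Type*} [Group Ω]

section Dec

variable {T : Subgroup Ω} {G : Subgroup (MulAut T)} {E : FusionSystem T}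

/-- `φ` is an element of `G` composed with a map of `E`. -/
def Dec (G : Subgroup (MulAut T)) (E : FusionSystem T) {P : Subgroup Ω} (φ : P →* Ω) : Prop :=
  ∃ α ∈ G, ∃ e ∈ E.Hom P, ∀ (x : P) (hx : e x ∈ T), φ x = ((α ⟨e x, hx⟩ : T) : Ω)

theorem Dec.of_mem {P : Subgroup Ω} {φ : P →* Ω} (h : φ ∈ E.Hom P) : Dec G E φ :=
  ⟨1, one_mem G, φ, h, fun _ _ => rfl⟩

theorem Dec.of_aut {α : MulAut T} (hα : α ∈ G) {P : Subgroup Ω} (hP : P ≤ T) {φ : P →* Ω}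
    (h : ∀ x : P, φ x = ((α ⟨x, hP x.2⟩ : T) : Ω)) : Dec G E φ :=
  ⟨α, hα, P.subtype, subtype_mem E hP, fun x _ => h x⟩

theorem Dec.congr {P : Subgroup Ω} {φ ψ : P →* Ω} (h : Dec G E φ) (he : ∀ x, ψ x = φ x) : Dec G E ψ := by
  obtain ⟨α, hα, e, hem, h'⟩ := h
  exact ⟨α, hα, e, hem, fun x hx => (he x).trans (h' x hx)⟩

theorem Dec.restrict {P R : Subgroup Ω} {φ : R →* Ω} {χ : P →* Ω} (h : Dec G E φ) (hle : P ≤ R)
    (he : ∀ x : P, χ x = φ ⟨x, hle x.2⟩) : Dec G E χ := by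
  obtain ⟨α, hα, e, hem, h'⟩ := h
  obtain ⟨e', he', he'e⟩ := exists_restrict hem hle
  refine ⟨α, hα, e', he', fun x hx => ?_⟩
  rw [he, h' _ (he'e x ▸ hx)]
  exact congrArg (fun z => ((α z : T) : Ω)) (Subtype.ext (he'e x).symm)

theorem Dec.comp (hinv : ∀ α ∈ G, Inv E α) {P Q : Subgroup Ω} {φ : P →* Ω} {ψ : Q →* Ω} {χ : P →* Ω}
    (h₁ : Dec G E φ) (h₂ : Dec G E ψ) (hm : ∀ x, φ x ∈ Q) (he : ∀ x, χ x = ψ ⟨φ x, hm x⟩) : Dec G E χ := by
  obtain ⟨α, hα, e, hem, h⟩ := h₁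
  obtain ⟨β, hβ, f, hfm, h'⟩ := h₂
  have hm' : ∀ x, ((α ⟨e x, apply_mem hem x⟩ : T) : Ω) ∈ Q := fun x => h x (apply_mem hem x) ▸ hm x
  obtain ⟨e', he', hs⟩ := exists_swap (hinv α⁻¹ (inv_mem hα)) hem hfm hm'
  refine ⟨β * α, mul_mem hβ hα, e', he', fun x hx => ?_⟩
  rw [he, h' _ (apply_mem hfm _), MulAut.mul_apply]
  refine congrArg (fun z => ((β z : T) : Ω)) (Subtype.ext ?_)
  rw [← hs x hx]
  exact congrArg f (Subtype.ext (h x _))

theorem Dec.inv (hinv : ∀ α ∈ G, Inv E α) {P : Subgroup Ω} {φ : P →* Ω} (h : Dec G E φ) :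
    ∃ ψ : φ.range →* Ω, Dec G E ψ ∧ ∀ x : P, ψ ⟨φ x, x, rfl⟩ = x := by
  obtain ⟨α, hα, e, hem, he⟩ := h
  obtain ⟨η, hη, -, hηl, -⟩ := exists_inv hem rfl
  have hX : φ.range ≤ T := by
    rintro _ ⟨x, rfl⟩; rw [he x (apply_mem hem x)]; exact (α _).2
  have hm : ∀ y : φ.range, ((α⁻¹ ⟨φ.range.subtype y, hX y.2⟩ : T) : Ω) ∈ e.range := by
    rintro ⟨_, x, rfl⟩
    refine ⟨x, ?_⟩
    rw [show (⟨φ.range.subtype ⟨φ x, x, rfl⟩, hX ⟨x, rfl⟩⟩ : T) = α ⟨e x, apply_mem hem x⟩ from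
      Subtype.ext (he x _), MulAut.inv_apply_self]
  obtain ⟨e', he', hs⟩ := exists_swap (α := α⁻¹) (by rw [inv_inv]; exact hinv α hα) (subtype_mem E hX) hη hm
  let ψ : φ.range →* Ω := T.subtype.comp ((α⁻¹ : MulAut T).toMonoidHom.comp
    (e'.codRestrict T (apply_mem he')))
  refine ⟨ψ, ⟨α⁻¹, inv_mem hα, e', he', fun x _ => rfl⟩, fun x => ?_⟩
  show ((α⁻¹ ⟨e' _, _⟩ : T) : Ω) = _
  rw [← hs _ (apply_mem he' _)]
  refine (congrArg η (Subtype.ext ?_)).trans (hηl x ⟨x, rfl⟩)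
  exact (congrArg (fun z => ((α⁻¹ z : T) : Ω))
    (Subtype.ext (he x _) : (⟨φ.range.subtype ⟨φ x, x, rfl⟩, hX ⟨x, rfl⟩⟩ : T) = α ⟨e x, apply_mem hem x⟩)).trans
    (congrArg Subtype.val (MulAut.inv_apply_self T α ⟨e x, apply_mem hem x⟩))

end Dec

variable {S : Subgroup Ω} [Finite S] {p : ℕ} [Fact p.Prime] {F : FusionSystem S}

/-- The system of the maps `γ ∘ e`, `γ ∈ G`, `e` in the generated system. -/
def twisted (hS : IsPGroup p S) (F : FusionSystem S) (G : Subgroup (MulAut S)) (hG : G ≤ F.autGroup S) :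
    FusionSystem S where
  Hom P := {φ | φ ∈ F.Hom P ∧ Dec G (gen0 F p) φ}
  le_of_mem h := F.le_of_mem h.1
  injective_of_mem h := F.injective_of_mem h.1
  conj_mem hP hg := ⟨F.conj_mem hP hg, Dec.of_mem ((gen0 F p).conj_mem hP hg)⟩
  comp_mem hφ hψ h := ⟨F.comp_mem hφ.1 hψ.1 h,
    Dec.comp (fun _ ha => gen0_inv hS (hG ha)) hφ.2 hψ.2 h fun _ => rfl⟩
  inv_mem := by
    intro P φ hφ
    obtain ⟨ψ, hψ, he⟩ := F.inv_mem hφ.1
    obtain ⟨ω, hω, he'⟩ := Dec.inv (fun _ ha => gen0_inv hS (hG ha)) hφ.2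
    refine ⟨ψ, ⟨hψ, hω.congr ?_⟩, he⟩
    rintro ⟨_, x, rfl⟩
    rw [he, he']

/-- Every map is an automorphism of `S` composed with a map of the generated system. -/
theorem dec_of_mem (hS : IsPGroup p S) (hF : F.IsSaturated p) {P : Subgroup Ω} {φ : P →* Ω}
    (hφ : φ ∈ F.Hom P) : Dec (F.autGroup S) (gen0 F p) φ := by
  have hinv : ∀ α ∈ F.autGroup S, Inv (gen0 F p) α := fun _ ha => gen0_inv hS ha
  refine Induction.hom_induction hS hF (M := fun P φ => Dec (F.autGroup S) (gen0 F p) φ)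
    (fun P Q φ ψ χ _ _ h he h₁ h₂ => Dec.comp hinv h₁ h₂ h he)
    (fun P Q φ ψ h _ he h₁ => h₁.restrict h he) ?_ P φ hφ
  intro Q hQn hQc hQr a ha big
  haveI := finite_sub hQn.1
  obtain ⟨b, hb, hbn, hab⟩ := exists_frattini hS (fullyAutomized_of_fullyNormalized hS hF hQn) ha
  have h1 : Dec (F.autGroup S) (gen0 F p) (Q.subtype.comp b.toMonoidHom) := by
    rcases hQn.1.lt_or_eq with hlt | heq
    · obtain ⟨ψ, hψ, hψe⟩ := Induction.exists_extend_preimage (receptive_of_fullyNormalized hS hF hQn) le_rfl hb hbn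
      have hN : normalizerIn S Q ≤ Induction.preimageAut S Q (autInducedBy S Q) := fun g hg =>
        ⟨hg, Q.normalizerMonoidHom ⟨g, hg.2⟩, mem_autInducedBy.2 ⟨g, hg.1, fun _ => rfl⟩, fun _ => rfl⟩
      have hlt' := (Induction.lt_normalizerIn hS hlt).trans_le hN
      haveI := finite_sub (src_le hψ)
      refine (big _ (lt_of_not_ge fun h => hlt'.ne (Subgroup.eq_of_le_of_card_ge hlt'.le h)) ψ hψ).restrict
        hlt'.le fun x => ?_
      exact (hψe x x.2 _).symm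
    · subst heq
      exact Dec.of_aut hb le_rfl fun _ => rfl
  have h2 : Dec (F.autGroup S) (gen0 F p) (Q.subtype.comp (a * b⁻¹).toMonoidHom) :=
    Dec.of_mem ((mem_autGroup hQn.1).1 (gen0_contains Q hQc hQr hab))
  refine Dec.comp hinv h1 h2 (fun x => (b x).2) fun x => ?_
  show ((a x : Q) : Ω) = (((a * b⁻¹) (b x) : Q) : Ω)
  rw [MulAut.mul_apply, MulAut.inv_apply_self]

/-- Maps of the system carry automorphisms in the generated system to automorphisms in it. -/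
theorem congr_mem_gen0 (hS : IsPGroup p S) (hF : F.IsSaturated p) {P Q : Subgroup Ω} {φ : P →* Ω}
    (hφ : φ ∈ F.Hom P) (hQ : φ.range = Q) {a : MulAut P} (ha : a ∈ (gen0 F p).autGroup P) :
    MulAut.congr (homEquiv hφ hQ) a ∈ (gen0 F p).autGroup Q := by
  obtain ⟨α, hα, e, he, h⟩ := dec_of_mem hS hF hφ
  have hP := src_le hφ
  obtain ⟨a', ha', hae⟩ : ∃ a' ∈ (gen0 F p).autGroup e.range, ∀ x : P, ((a' ⟨e x, x, rfl⟩ : e.range) : Ω) = e (a x) :=
    ⟨_, congr_mem_autGroup he rfl ha, fun x => by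
      show e (a ((homEquiv he rfl).symm (homEquiv he rfl x))) = _
      rw [MulEquiv.symm_apply_apply]⟩
  obtain ⟨τ, hτ, -, hτe⟩ := exists_hom_of_aut (range_le_base he) ha'
  obtain ⟨χ, hχ, hχe⟩ := gen0_inv hS hα _ (range_le_base he) τ hτ
  have himg : img α e.range = Q := by
    rw [← hQ]
    ext y
    constructor
    · rintro ⟨z, ⟨x, hx⟩, rfl⟩
      exact ⟨x, (h x (apply_mem he x)).trans (congrArg (fun w => ((α w : S) : Ω)) (Subtype.ext hx))⟩
    · rintro ⟨x, rfl⟩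
      rw [h x (apply_mem he x)]
      exact apply_mem_img α (range_le_base he) ⟨e x, x, rfl⟩
  subst himg
  refine mem_autGroup_of_hom hχ fun y => ?_
  obtain ⟨x, rfl⟩ := (homEquiv hφ hQ).surjective y
  show φ (a ((homEquiv hφ hQ).symm (homEquiv hφ hQ x))) = _
  rw [MulEquiv.symm_apply_apply, h _ (apply_mem he _)]
  have h1 := hχe ⟨e x, x, rfl⟩ (apply_mem hτ _) (apply_mem_img α (range_le_base he) ⟨e x, x, rfl⟩)
  refine Eq.trans ?_ (h1.symm.trans (congrArg χ (Subtype.ext (h x (apply_mem he x)).symm)))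
  refine congrArg (fun z => ((α z : S) : Ω)) (Subtype.ext ?_)
  show e (a x) = τ _
  rw [hτe, hae]

theorem gen0_index (hS : IsPGroup p S) (hF : F.IsSaturated p) {P : Subgroup Ω} (hP : P ≤ S) :
    pp F p P ≤ (gen0 F p).autGroup P := by
  refine pp_le_iff.2 fun a ha k hk => ?_
  obtain ⟨Q, ⟨φ, hφ, hr⟩, ⟨hQS, R, hR⟩, -⟩ := hF P hP
  haveI := finite_sub hQS
  haveI := GT.finite_mulAut ↥Q
  set e := homEquiv hφ hr
  set a' := MulAut.congr e a with ha'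
  obtain ⟨b, hb, hbt⟩ := exists_conj_le_sylow R hR (T := Subgroup.zpowers a')
    (Subgroup.zpowers_le.2 (congr_mem_autGroup hφ hr ha))
    (by
      refine (IsPGroup.iff_card).2 ?_
      rw [Nat.card_zpowers]
      obtain ⟨j, -, hj⟩ := (Nat.dvd_prime_pow (Fact.out : p.Prime)).1
        (orderOf_dvd_of_pow_eq_one (show a' ^ p ^ k = 1 by rw [ha', ← map_pow, hk, map_one]))
      exact ⟨j, hj⟩)
  obtain ⟨g, hg, hge⟩ := mem_autInducedBy.1 (hbt a' (Subgroup.mem_zpowers a'))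
  have h1 : b * a' * b⁻¹ ∈ (gen0 F p).autGroup Q := mem_autGroup_of_hom ((gen0 F p).conj_mem hQS hg) hge
  obtain ⟨τ, hτ, hτr, hτe⟩ := exists_hom_of_aut hQS ((F.autGroup Q).inv_mem hb)
  have h2 : a' ∈ (gen0 F p).autGroup Q := by
    have h3 := congr_mem_gen0 hS hF hτ hτr h1
    convert h3 using 1
    refine MulEquiv.ext fun y => ?_
    obtain ⟨x, rfl⟩ := (homEquiv hτ hτr).surjective y
    apply Subtype.ext
    show ((a' (homEquiv hτ hτr x) : Q) : Ω) = τ ((b * a' * b⁻¹) ((homEquiv hτ hτr).symm (homEquiv hτ hτr x)))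
    rw [MulEquiv.symm_apply_apply, hτe, show homEquiv hτ hτr x = b⁻¹ x from Subtype.ext (hτe x)]
    simp [MulAut.mul_apply]
  obtain ⟨ψ, hψ, hψr, hψl, -⟩ := exists_inv hφ hr
  have h4 := congr_mem_gen0 hS hF hψ hψr h2
  convert h4 using 1
  refine MulEquiv.ext fun x => Subtype.ext ?_
  have hsymm : (homEquiv hψ hψr).symm x = e x :=
    (MulEquiv.symm_apply_eq _).2 (Subtype.ext (hψl x (hr.le ⟨x, rfl⟩)).symm)
  show ((a x : P) : Ω) = ψ (e (a (e.symm ((homEquiv hψ hψr).symm x))))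
  rw [hsymm, MulEquiv.symm_apply_apply]
  exact (hψl (a x) (hr.le ⟨a x, rfl⟩)).symm

/-- Centric subgroups do not change. -/
theorem isCentric_iff (hS : IsPGroup p S) (hF : F.IsSaturated p) {E : FusionSystem S} (hEF : E.IsSubsystemOf F)
    (hE : (gen0 F p).IsSubsystemOf E) {P : Subgroup Ω} : E.IsCentric P ↔ F.IsCentric P := by
  refine ⟨fun hP => ⟨hP.1, fun Q hQ => ?_⟩, FusionEssential.Centric.isCentric_of_le hEF⟩
  obtain ⟨φ, hφ, rfl⟩ := hQ
  obtain ⟨α, hα, e, he, h⟩ := dec_of_mem hS hF hφ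
  intro c hc
  have hcent : ((α⁻¹ ⟨c, hc.1⟩ : S) : Ω) ∈ centralizerIn S e.range := by
    refine ⟨(α⁻¹ _).2, ?_⟩
    rintro _ ⟨x, rfl⟩
    have h1 : (⟨φ x, apply_mem hφ x⟩ : S) * ⟨c, hc.1⟩ = ⟨c, hc.1⟩ * ⟨φ x, apply_mem hφ x⟩ :=
      Subtype.ext (hc.2 (φ x) ⟨x, rfl⟩)
    have h2 := congrArg (fun z => ((α⁻¹ z : S) : Ω)) h1
    simp only [map_mul, Subgroup.coe_mul] at h2
    rw [show (⟨φ x, apply_mem hφ x⟩ : S) = α ⟨e x, apply_mem he x⟩ from Subtype.ext (h x _),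
      MulAut.inv_apply_self] at h2
    exact h2
  obtain ⟨x, hx⟩ := hP.2 _ ⟨e, hE P he, rfl⟩ hcent
  refine ⟨x, ?_⟩
  rw [h x (apply_mem he x), show (⟨e x, apply_mem he x⟩ : S) = α⁻¹ ⟨c, hc.1⟩ from Subtype.ext hx,
    MulAut.apply_inv_self]

end Cfsg.Agent.Lib.FusionP3.Prime
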