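import Cfsg.Agent.Lib.FusionP3.Prime.Character

/-!
Two weakly normal subsystems on the same base share the residual of index prime to `p`.
-/

set_option autoImplicit false
set_option linter.style.haveILetI false
set_option linter.unusedSectionVars false

namespace Cfsg.Agent.Lib.FusionP3.Prime

open Cfsg Cfsg.FusionSystem Cfsg.Agent.Lib.FS
open Cfsg.Agent.Lib.FusionP3.Criterion

variable {Ω : Type*} [Group Ω] {S : Subgroup Ω} [Finite S] {p : ℕ} [Fact p.Prime] {F : FusionSystem S}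
variable {T : Subgroup Ω} {E D : FusionSystem T}

theorem kernel_of_weaklyNormal (hS : IsPGroup p S) (hE : E.IsWeaklyNormalIn F p) :
    Kernel F p E (F.autGroup T) where
  pGroup := hS
  sat := hE.2.1
  sat' := hE.1
  sub := hE.2.2.1
  closed := hE.2.2.2.1
  inv α hα P hP φ hφ := hE.2.2.2.2.1 P hP φ hφ α hα
  frattini := hE.2.2.2.2.2
  le := le_rfl
  aut_le := GT.autGroup_mono hE.2.2.1 le_rfl
  normal _ hα _ hk := (F.autGroup T).mul_mem ((F.autGroup T).mul_mem hα hk) ((F.autGroup T).inv_mem hα)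
  pElt _ hα _ _ := hα

theorem isCentric_other (hS : IsPGroup p S) (hE : E.IsWeaklyNormalIn F p) (hD : D.IsWeaklyNormalIn F p)
    {U : Subgroup Ω} (hU : E.IsCentric U) : D.IsCentric U := by
  haveI := finite_sub hE.2.2.2.1.1
  refine ⟨hU.1, fun Q ⟨φ, hφ, hr⟩ => ?_⟩
  have hc := (kernel_of_weaklyNormal hS hE).centric_range hU (hD.2.2.1 U hφ)
  rw [← hr]
  exact hc.2 _ (isConj_refl E hc.1)

/-- An automorphism of `p`-power order in one of the systems lies in the other. -/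
theorem pp_le_other (_hS : IsPGroup p S) (hE : E.IsWeaklyNormalIn F p) (hD : D.IsWeaklyNormalIn F p)
    {P : Subgroup Ω} (hP : P ≤ T) : pp E p P ≤ D.autGroup P := by
  haveI := finite_sub hE.2.2.2.1.1
  refine pp_le_iff.2 fun a ha k hk => ?_
  obtain ⟨Q, ⟨φ, hφ, hr⟩, ⟨hQT, R, hR⟩, -⟩ := hE.1 P hP
  haveI := finite_sub hQT
  haveI := GT.finite_mulAut ↥Q
  set a' := MulAut.congr (homEquiv hφ hr) a with ha'
  obtain ⟨b, hb, hbt⟩ := exists_conj_le_sylow R hR (T := Subgroup.zpowers a')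
    (Subgroup.zpowers_le.2 (congr_mem_autGroup hφ hr ha))
    (by
      refine (IsPGroup.iff_card).2 ?_
      rw [Nat.card_zpowers]
      obtain ⟨j, -, hj⟩ := (Nat.dvd_prime_pow (Fact.out : p.Prime)).1
        (orderOf_dvd_of_pow_eq_one (show a' ^ p ^ k = 1 by rw [ha', ← map_pow, hk, map_one]))
      exact ⟨j, hj⟩)
  obtain ⟨g, hg, hge⟩ := mem_autInducedBy.1 (hbt a' (Subgroup.mem_zpowers a'))
  obtain ⟨τ, hτ, -, hτe⟩ := exists_hom_of_aut hQT hb
  obtain ⟨θ, hθ, hθe⟩ := exists_comp hφ hτ fun x => hr.le ⟨x, rfl⟩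
  have hθa : ∀ x : P, θ (a x) = g * θ x * g⁻¹ := fun x => by
    rw [hθe, hτe, hθe, hτe]
    refine Eq.trans ?_ (hge _)
    rw [MulAut.mul_apply, MulAut.mul_apply, MulAut.inv_apply_self]
    refine congrArg (fun z => ((b z : Q) : Ω)) (Subtype.ext ?_)
    show φ (a x) = φ (a ((homEquiv hφ hr).symm (homEquiv hφ hr x)))
    rw [MulEquiv.symm_apply_apply]
  obtain ⟨γ, hγ, d, hd, hde⟩ := hD.2.2.2.2.2 P hP θ (hE.2.2.1 P hθ)
  obtain ⟨η, hη, -, hηl, -⟩ := exists_inv hd rfl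
  set g' : T := γ⁻¹ ⟨g, hg⟩ with hg'
  have hda : ∀ x : P, d (a x) = (g' : Ω) * d x * (g' : Ω)⁻¹ := fun x => by
    have h1 : γ ⟨d (a x), apply_mem hd _⟩ = ⟨g, hg⟩ * γ ⟨d x, apply_mem hd x⟩ * ⟨g, hg⟩⁻¹ := by
      apply Subtype.ext
      rw [← hde, hθa, hde x (apply_mem hd x)]
      rfl
    have h2 := congrArg (fun z => ((γ⁻¹ z : T) : Ω)) h1
    simp only [map_mul, map_inv, MulAut.inv_apply_self, Subgroup.coe_mul, Subgroup.coe_inv] at h2
    exact h2
  let ψ : P →* Ω := d.comp a.toMonoidHom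
  have hψ : ψ ∈ D.Hom P :=
    mem_comp hd (D.conj_mem (range_le_base hd) g'.2) (fun x => ⟨x, rfl⟩) fun x => hda x
  exact mem_autGroup_of_hom (D.comp_mem hψ hη fun x => ⟨a x, rfl⟩) fun x => (hηl (a x) ⟨_, rfl⟩).symm

theorem gen0_le_other (hS : IsPGroup p S) (hE : E.IsWeaklyNormalIn F p) (hD : D.IsWeaklyNormalIn F p) :
    haveI := finite_sub hE.2.2.2.1.1
    (gen0 E p).IsSubsystemOf D :=
  haveI := finite_sub hE.2.2.2.1.1
  gen0_least fun _ hP _ => pp_le_other hS hE hD hP.1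

theorem aut_normal (hE : E.IsInvariantIn F) {α k : MulAut T} (hα : α ∈ F.autGroup T) (hk : k ∈ E.autGroup T) :
    α * k * α⁻¹ ∈ E.autGroup T := by
  obtain ⟨φ, hφ, -, hφe⟩ := exists_hom_of_aut le_rfl hk
  obtain ⟨χ, hχ, hχe⟩ := hE.2.2.1 T le_rfl φ hφ α hα
  have hle : T ≤ img α T := fun y hy => (mem_img hy).2 (α⁻¹ _).2
  obtain ⟨χ', hχ', hχ'e⟩ := exists_restrict hχ hle
  refine mem_autGroup_of_hom hχ' fun y => ?_
  obtain ⟨x, rfl⟩ := α.surjective y
  rw [hχ'e, MulAut.mul_apply, MulAut.mul_apply, MulAut.inv_apply_self]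
  refine Eq.trans ?_ (hχe x (apply_mem hφ x) (hle (α x).2)).symm
  exact congrArg (fun z => ((α z : T) : Ω)) (Subtype.ext (hφe x).symm)

/-- An automorphism fixing a self-centralizing subgroup of `N ≤ N_T(U)` pointwise has `p`-power order. -/
theorem pow_eq_one_of_fix {a : ℕ} [Finite T] (ha : Nat.card T = p ^ a) {U N : Subgroup Ω} (hUN : U ≤ N)
    (hN : N ≤ normalizerIn T U) (hC : centralizerIn T U ≤ U) {π : MulAut N}
    (hπ : ∀ x : N, (x : Ω) ∈ U → π x = x) : π ^ p ^ a = 1 := by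
  refine MulEquiv.ext fun x => ?_
  set z : N := x⁻¹ * π x with hz
  have hNT : N ≤ T := hN.trans (normalizerIn_le U)
  have hzU : (z : Ω) ∈ U := by
    refine hC (mem_centralizerIn'.2 ⟨hNT z.2, fun u hu => ?_⟩)
    have hxu : (x : Ω) * u * (x : Ω)⁻¹ ∈ U := conj_mem_of_normalizer (hN x.2).2 hu
    have h1 := hπ ⟨_, hUN hxu⟩ hxu
    rw [show (⟨(x : Ω) * u * (x : Ω)⁻¹, hUN hxu⟩ : N) = x * ⟨u, hUN hu⟩ * x⁻¹ from Subtype.ext rfl,
      map_mul, map_mul, map_inv, hπ _ (show ((⟨u, hUN hu⟩ : N) : Ω) ∈ U from hu)] at h1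
    have h2 := congrArg (Subtype.val : N → Ω) h1
    simp only [Subgroup.coe_mul, Subgroup.coe_inv] at h2
    simp only [hz, Subgroup.coe_mul, Subgroup.coe_inv]
    calc (x : Ω)⁻¹ * (π x : N) * u * ((x : Ω)⁻¹ * (π x : N))⁻¹
        = (x : Ω)⁻¹ * (((π x : N) : Ω) * u * ((π x : N) : Ω)⁻¹) * x := by group
      _ = u := by rw [h2]; group
  have hn : ∀ n : ℕ, (π ^ n) x = x * z ^ n := fun n => by
    induction n with
    | zero => simp
    | succ n ihn =>
      rw [pow_succ', MulAut.mul_apply, ihn, map_mul, map_pow, hπ z hzU,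
        show π x = x * z from by rw [hz]; group, mul_assoc, ← pow_succ']
  rw [hn, MulAut.one_apply]
  have hzT : (⟨(z : Ω), hNT z.2⟩ : T) ^ p ^ a = 1 := ha ▸ pow_card_eq_one'
  have hz1 : z ^ p ^ a = 1 := Subtype.ext (congrArg (Subtype.val : T → Ω) hzT)
  rw [hz1, mul_one]

/-- An automorphism of `T` in `E` agreeing with `D` on an `E`-centric subgroup lies in `D`. -/
theorem mem_other_of_res (hS : IsPGroup p S) (hE : E.IsWeaklyNormalIn F p) (hD : D.IsWeaklyNormalIn F p)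
    {U : Subgroup Ω} (hU : E.IsCentric U) {δ : MulAut T} (hδ : δ ∈ E.autGroup T)
    (hm : autRes δ hU.1 ∈ D.Hom U) : δ ∈ D.autGroup T := by
  have hTS : T ≤ S := hE.2.2.2.1.1
  haveI := finite_sub hTS
  haveI := GT.finite_mulAut ↥T
  have hTp : IsPGroup p T := hS.to_le hTS
  have hK := kernel_of_weaklyNormal hS hE
  obtain ⟨a, ha⟩ := (IsPGroup.iff_card).1 hTp
  -- the index of `Inn T` in `Aut_D(T)`
  set jj := ((Inn T).subgroupOf (D.autGroup T)).index with hjj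
  haveI : ((Inn T).subgroupOf (D.autGroup T)).Normal := by
    refine ⟨fun n hn g => ?_⟩
    obtain ⟨q, hq⟩ := Subgroup.mem_subgroupOf.mp hn
    refine Subgroup.mem_subgroupOf.mpr ⟨g.1 q, ?_⟩
    rw [Subgroup.coe_mul, Subgroup.coe_mul, Subgroup.coe_inv, ← hq]
    exact MulEquiv.ext fun x => by simp [MulAut.mul_apply, MulAut.conj_apply]
  have hjp : jj.Coprime p := by
    obtain ⟨R, hR⟩ := (fullyAutomized_of_fullyNormalized hTp hD.1 (isFullyNormalized_base D)).2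
    have hTT : autInducedBy T T = Inn T := le_antisymm (fun α hα => by
      obtain ⟨g, hg, hge⟩ := mem_autInducedBy.1 hα
      exact ⟨⟨g, hg⟩, MulEquiv.ext fun x => Subtype.ext (hge x).symm⟩) (inn_le_autInducedBy le_rfl)
    rw [hjj, ← hTT, ← hR]
    exact ((Fact.out : p.Prime).coprime_iff_not_dvd.2 R.not_dvd_index).symm
  suffices key : ∀ (r : ℕ) (U : Subgroup Ω) (hU : E.IsCentric U), Nat.card T - Nat.card U ≤ r →
      autRes δ hU.1 ∈ D.Hom U → δ ∈ D.autGroup T from key _ U hU le_rfl hm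
  intro r
  induction r using Nat.strong_induction_on with
  | _ r ih =>
    intro U hU hr hm
    rcases hU.1.lt_or_eq with hlt | heq
    swap
    · subst heq; exact mem_autGroup_of_hom hm fun _ => rfl
    set N := normalizerIn T U with hNdef
    have hNT : N ≤ T := normalizerIn_le U
    haveI := finite_sub hNT
    haveI := finite_sub hU.1
    haveI := GT.finite_mulAut ↥N
    have hUN : U ≤ N := le_normalizerIn hU.1
    have hrng := autRes_range δ hU.1
    have hV : E.IsCentric (img δ U) := hK.centric_img hU (GT.autGroup_mono hE.2.2.1 le_rfl hδ)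
    obtain ⟨ψ₀, hψ₀, hψ₀e⟩ := (receptive_of_fullyCentralized hTp hD.1
      (FusionEssential.Centric.fullyCentralized_of_centric (isCentric_other hS hE hD hV))).2 U _ hm hrng
    obtain ⟨ψ, hψ, hψe⟩ := exists_restrict hψ₀ (show N ≤ extender T U (autRes δ hU.1) from fun g hg =>
      mem_extender_of hg (δ ⟨g, hNT hg⟩).2 fun x hx => by
        rw [autRes_apply, autRes_apply, show (⟨g * (x : Ω) * g⁻¹, hU.1 hx⟩ : T) =
          ⟨g, hNT hg⟩ * ⟨x, hU.1 x.2⟩ * ⟨g, hNT hg⟩⁻¹ from Subtype.ext rfl, map_mul, map_mul, map_inv]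
        rfl)
    have hψU : ∀ x : N, (hx : (x : Ω) ∈ U) → ψ x = ((δ ⟨x, hU.1 hx⟩ : T) : Ω) := fun x hx =>
      (hψe x).trans (hψ₀e x hx _)
    obtain ⟨d, hd, e, he, hde⟩ := dec_of_mem hTp hD.1 hψ
    have heE : e ∈ E.Hom N := gen0_le_other hS hD hE N he
    have hδF : δ ∈ F.autGroup T := GT.autGroup_mono hE.2.2.1 le_rfl hδ
    have hdF : d ∈ F.autGroup T := GT.autGroup_mono hD.2.2.1 le_rfl hd
    set m := δ⁻¹ * d with hm'
    have hmF : m ∈ F.autGroup T := (F.autGroup T).mul_mem ((F.autGroup T).inv_mem hδF) hdF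
    let πm : N →* Ω := (autRes δ⁻¹ (le_refl T)).comp (ψ.codRestrict T (apply_mem hψ))
    have hπm : πm ∈ F.Hom N :=
      mem_comp (hD.2.2.1 N hψ) ((mem_autGroup hTS).1 ((F.autGroup T).inv_mem hδF)) (apply_mem hψ) fun _ => rfl
    have hπN : ∀ x, πm x ∈ N := fun x => by
      refine ⟨(δ⁻¹ _).2, mem_normalizer_of_conj_mem fun u hu => ?_⟩
      have hu' : u = πm ⟨u, hUN hu⟩ := by
        show u = ((δ⁻¹ ⟨ψ ⟨u, hUN hu⟩, apply_mem hψ _⟩ : T) : Ω)
        rw [show (⟨ψ ⟨u, hUN hu⟩, apply_mem hψ _⟩ : T) = δ ⟨u, hU.1 hu⟩ from Subtype.ext (hψU _ hu),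
          MulAut.inv_apply_self]
      rw [hu', ← map_inv, ← map_mul, ← map_mul]
      have hw : ((x * ⟨u, hUN hu⟩ * x⁻¹ : N) : Ω) ∈ U := conj_mem_of_normalizer x.2.2 hu
      show ((δ⁻¹ ⟨ψ _, _⟩ : T) : Ω) ∈ U
      rw [show (⟨ψ (x * ⟨u, hUN hu⟩ * x⁻¹), apply_mem hψ _⟩ : T) = δ ⟨_, hU.1 hw⟩ from Subtype.ext (hψU _ hw),
        MulAut.inv_apply_self]
      exact hw
    have hπr : πm.range = N := range_eq_of_mem hπm hπN le_rfl
    set π : MulAut N := homEquiv hπm hπr with hπdef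
    have hπU : ∀ x : N, (x : Ω) ∈ U → π x = x := fun x hx => Subtype.ext (by
      show ((δ⁻¹ ⟨ψ x, apply_mem hψ x⟩ : T) : Ω) = x
      rw [show (⟨ψ x, apply_mem hψ x⟩ : T) = δ ⟨x, hU.1 hx⟩ from Subtype.ext (hψU x hx), MulAut.inv_apply_self])
    have hπ1 : π ^ p ^ a = 1 := pow_eq_one_of_fix ha hUN le_rfl (hU.2 U (isConj_refl E hU.1)) hπU
    have hπe : ∀ x : N, ((π x : N) : Ω) = ((m ⟨e x, apply_mem heE x⟩ : T) : Ω) := fun x => by
      show ((δ⁻¹ ⟨ψ x, apply_mem hψ x⟩ : T) : Ω) = _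
      rw [hm', MulAut.mul_apply]
      exact congrArg (fun z => ((δ⁻¹ z : T) : Ω)) (Subtype.ext (hde x _))
    have hpow : ∀ n : ℕ, ∃ f ∈ E.Hom N, ∀ (x : N) (hx : f x ∈ T),
        (((π ^ n) x : N) : Ω) = (((m ^ n) ⟨f x, hx⟩ : T) : Ω) := by
      intro n
      induction n with
      | zero => exact ⟨N.subtype, subtype_mem E hNT, fun x _ => rfl⟩
      | succ n ihn =>
        obtain ⟨f, hf, hfe⟩ := ihn
        obtain ⟨f', hf', hs⟩ := exists_swap (α := m ^ n)
          (hK.inv _ ((F.autGroup T).inv_mem ((F.autGroup T).pow_mem hmF n))) hf heE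
          (fun x => hfe x (apply_mem hf x) ▸ ((π ^ n) x).2)
        refine ⟨f', hf', fun x hx => ?_⟩
        rw [pow_succ', MulAut.mul_apply, hπe, pow_succ', MulAut.mul_apply]
        refine congrArg (fun z => ((m z : T) : Ω)) (Subtype.ext ?_)
        exact (congrArg e (Subtype.ext (hfe x _))).trans (hs x hx)
    have hmk : ∀ n : ℕ, ∃ k ∈ E.autGroup T, m ^ n = k * d ^ n := fun n => by
      induction n with
      | zero => exact ⟨1, one_mem _, by simp⟩
      | succ n ihn =>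
        obtain ⟨k, hk, hke⟩ := ihn
        refine ⟨δ⁻¹ * (d * k * d⁻¹), (E.autGroup T).mul_mem ((E.autGroup T).inv_mem hδ) (aut_normal hE.2.2 hdF hk), ?_⟩
        rw [pow_succ', hke, hm', pow_succ']
        group
    have hdj : d ^ jj ∈ E.autGroup T :=
      inn_le_autGroup E le_rfl (Subgroup.pow_index_mem ((Inn T).subgroupOf (D.autGroup T)) ⟨d, hd⟩)
    obtain ⟨k, hk, hke⟩ := hmk jj
    have hmj : m ^ jj ∈ E.autGroup T := hke ▸ (E.autGroup T).mul_mem hk hdj
    obtain ⟨f, hf, hfe⟩ := hpow jj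
    have hπj : π ^ jj ∈ E.autGroup N :=
      mem_autGroup_of_hom (E.comp_mem hf ((mem_autGroup le_rfl).1 hmj) (apply_mem hf)) fun x =>
        hfe x (apply_mem hf x)
    have hπE : π ∈ E.autGroup N := by
      obtain ⟨i, hi⟩ := exists_pow_eq_self_of_coprime (n := jj) (x := π)
        (Nat.Coprime.coprime_dvd_right (orderOf_dvd_of_pow_eq_one hπ1) (hjp.pow_right a))
      exact hi ▸ (E.autGroup N).pow_mem hπj i
    have hψE : ψ ∈ E.Hom N := mem_comp ((mem_autGroup hNT).1 hπE) ((mem_autGroup le_rfl).1 hδ)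
      (fun x => hNT (π x).2) fun x => by
      show ψ x = ((δ ⟨((π x : N) : Ω), hNT (π x).2⟩ : T) : Ω)
      rw [show (⟨((π x : N) : Ω), hNT (π x).2⟩ : T) = δ⁻¹ ⟨ψ x, apply_mem hψ x⟩ from Subtype.ext rfl,
        MulAut.apply_inv_self]
    obtain ⟨z, -, -, hz⟩ := exists_conj_of_agree_le hTp hE.1 hUN hU hψE (autRes_mem hδ hNT)
      (fun x hx => hψU x hx)
    have hlt' := Induction.lt_normalizerIn hTp hlt
    have hcard : Nat.card U < Nat.card N :=
      lt_of_not_ge fun he => hlt'.ne (Subgroup.eq_of_le_of_card_ge hUN he)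
    have := Subgroup.card_le_of_le hNT
    refine ih (Nat.card T - Nat.card N) (by omega) N
      (FusionEssential.Centric.isCentric_overgroup hU hUN hNT) le_rfl ?_
    refine mem_comp (D.conj_mem hNT (hNT z.2)) hψ (fun x => N.mul_mem (N.mul_mem z.2 x.2) (N.inv_mem z.2))
      fun x => ?_
    rw [hz]
    exact congrArg ψ (Subtype.ext rfl)

/-- The residual of one lies in every other. -/
theorem residual_le_other (hS : IsPGroup p S) (hE : E.IsWeaklyNormalIn F p) {R : FusionSystem T}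
    (hR : E.IsPPrimeResidual p R) (hD : D.IsWeaklyNormalIn F p) : R.IsSubsystemOf D := by
  have hTS : T ≤ S := hE.2.2.2.1.1
  haveI := finite_sub hTS
  have hTp : IsPGroup p T := hS.to_le hTS
  have h1 : R.IsSubsystemOf (twisted (p := p) hTp E (agreeing E p) agreeing_le) :=
    hR.2.2 _ (twisted_saturated hTp hE.1 fam_centric agreeing_le
      (fun δ hδ P hP _ h => Subgroup.subset_closure ⟨hδ, P, hP, h⟩)) (twisted_index hTp hE.1 agreeing_le)
  have h0 := gen0_le_other hS hE hD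
  have hG : agreeing E p ≤ D.autGroup T := (Subgroup.closure_le _).2 fun δ ⟨hδ, P, hP, h⟩ =>
    mem_other_of_res hS hE hD hP hδ (h0 P h)
  intro P φ hφ
  obtain ⟨-, γ, hγ, e, he, hx⟩ := h1 P hφ
  exact mem_of_dec h0 (hG hγ) he hx

end Cfsg.Agent.Lib.FusionP3.Prime
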