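import Cfsg.Agent.Lib.FusionP3.Prime.CharacterMain
import Cfsg.Agent.Lib.FusionP3.Prime.Least

/-!
The residual of index prime to `p` of a weakly normal subsystem is normal.
-/

set_option autoImplicit false
set_option linter.style.haveILetI false
set_option linter.unusedSectionVars false

namespace Cfsg.Agent.Lib.FusionP3.Prime.Normality

open Cfsg Cfsg.FusionSystem Cfsg.Agent.Lib.FS
open Cfsg.Agent.Lib.FusionP3.Prime

variable {Ω : Type*} [Group Ω] {S : Subgroup Ω} [Finite S] {p : ℕ} [Fact p.Prime] {F : FusionSystem S}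
variable {T : Subgroup Ω} {E : FusionSystem T}

/-- Maps of `F` inside `T` carry the automizers of an invariant subsystem to one another. -/
theorem congr_mem_aut (hE : E.IsInvariantIn F) {P Q : Subgroup Ω} (hP : P ≤ T) {φ : P →* Ω} (hφ : φ ∈ F.Hom P)
    (hQ : φ.range = Q) {a : MulAut P} (ha : a ∈ E.autGroup P) :
    MulAut.congr (homEquiv hφ hQ) a ∈ E.autGroup Q := by
  obtain ⟨α, hα, e, he, h⟩ := hE.2.2.2 P hP φ hφ
  obtain ⟨a', ha', hae⟩ : ∃ a' ∈ E.autGroup e.range, ∀ x : P, ((a' ⟨e x, x, rfl⟩ : e.range) : Ω) = e (a x) :=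
    ⟨_, congr_mem_autGroup he rfl ha, fun x => by
      show e (a ((homEquiv he rfl).symm (homEquiv he rfl x))) = _
      rw [MulEquiv.symm_apply_apply]⟩
  obtain ⟨τ, hτ, -, hτe⟩ := exists_hom_of_aut (range_le_base he) ha'
  obtain ⟨χ, hχ, hχe⟩ := hE.2.2.1 _ (range_le_base he) τ hτ α hα
  have himg : img α e.range = Q := by
    rw [← hQ]
    ext y
    constructor
    · rintro ⟨z, ⟨x, hx⟩, rfl⟩
      exact ⟨x, (h x (apply_mem he x)).trans (congrArg (fun w => ((α w : T) : Ω)) (Subtype.ext hx))⟩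
    · rintro ⟨x, rfl⟩
      rw [h x (apply_mem he x)]
      exact apply_mem_img α (range_le_base he) ⟨e x, x, rfl⟩
  subst himg
  refine mem_autGroup_of_hom hχ fun y => ?_
  obtain ⟨x, rfl⟩ := (homEquiv hφ hQ).surjective y
  show φ (a ((homEquiv hφ hQ).symm (homEquiv hφ hQ x))) = _
  rw [MulEquiv.symm_apply_apply, h _ (apply_mem he _)]
  have h1 := hχe ⟨e x, x, rfl⟩ (apply_mem hτ _) (apply_mem_img α (range_le_base he) ⟨e x, x, rfl⟩)
  refine Eq.trans ?_ (h1.symm.trans (congrArg χ (Subtype.ext (h x (apply_mem he x)).symm)))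
  refine congrArg (fun z => ((α z : T) : Ω)) (Subtype.ext ?_)
  show e (a x) = τ _
  rw [hτe, hae]

/-- The generated system of an invariant subsystem is invariant under all automorphisms of the base. -/
theorem gen0_inv_ambient [Finite T] (hTp : IsPGroup p T) (hEs : E.IsSaturated p) (hE : E.IsInvariantIn F)
    {α : MulAut T} (hα : α ∈ F.autGroup T) : Inv (gen0 E p) α := by
  intro P hP φ hφ
  have hcont : Contains E p (pull (gen0 E p) α) := by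
    intro R hR _ a ha
    have hres : autRes α hR.1 ∈ F.Hom R := by
      obtain ⟨χ, hχ, -, he⟩ := exists_hom_of_aut hE.2.1.1 hα
      exact mem_of_restrict hχ hR.1 fun x => (he _).symm
    have hr := autRes_range α hR.1
    have hle : pp E p R ≤ (pp E p (img α R)).comap (MulAut.congr (homEquiv hres hr)).toMonoidHom :=
      pp_le_iff.2 fun b hb k hk => mem_pp_of_pow (congr_mem_aut hE hR.1 hres hr hb)
        (show (MulAut.congr (homEquiv hres hr) b) ^ p ^ k = 1 by rw [← map_pow, hk, map_one])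
    have h1 := (mem_autGroup (img_le α R)).1 (gen0_index hTp hEs (img_le α R) (hle ha))
    refine (mem_autGroup hR.1).2 ⟨hR.1, fun x => hR.1 (a x).2, _, h1, fun x hx hφx hαx => ?_⟩
    show ((homEquiv hres hr (a ((homEquiv hres hr).symm (homEquiv hres hr x))) : img α R) : Ω) = _
    rw [MulEquiv.symm_apply_apply]
    rfl
  obtain ⟨-, -, χ, hχ, he⟩ := gen0_least hcont P hφ
  exact ⟨χ, hχ, fun x => he x _⟩

theorem agreeing_conj [Finite T] (hTp : IsPGroup p T) (hE : E.IsWeaklyNormalIn F p) (hS : IsPGroup p S)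
    {α γ : MulAut T} (hα : α ∈ F.autGroup T) (hγ : γ ∈ agreeing E p) :
    α * γ * α⁻¹ ∈ agreeing E p := by
  refine (Subgroup.closure_le ((agreeing E p).comap (MulAut.conj α).toMonoidHom)).2 ?_ hγ
  rintro δ ⟨hδ, P, hP, h⟩
  refine Subgroup.subset_closure ⟨aut_normal hE.2.2 hα hδ, img α P,
    (kernel_of_weaklyNormal hS hE).centric_img hP hα, ?_⟩
  obtain ⟨χ, hχ, hχe⟩ := gen0_inv_ambient hTp hE.1 hE.2.2 hα P hP.1 _ h
  refine hom_congr hχ ?_
  rintro ⟨_, x, hx, rfl⟩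
  refine Eq.trans ?_ (hχe ⟨x, hx⟩ (δ _).2 _).symm
  show ((α (δ (α⁻¹ (α x))) : T) : Ω) = _
  rw [MulAut.inv_apply_self]
  rfl

section Good

/-- `φ` extends over `C_S(T)` moving each of its elements inside its coset of `T`. -/
def Good (F : FusionSystem S) (T U : Subgroup Ω) (φ : U →* Ω) : Prop :=
  ∃ ψ ∈ F.Hom (U ⊔ centralizerIn S T), (∀ (x : Ω) (hx : x ∈ U), ψ ⟨x, le_sup_left (a := U) hx⟩ = φ ⟨x, hx⟩) ∧
    ∀ (c : Ω) (hc : c ∈ centralizerIn S T), c⁻¹ * ψ ⟨c, le_sup_right (b := centralizerIn S T) hc⟩ ∈ T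

theorem comm_of_mem {U : Subgroup Ω} (hU : U ≤ T) {u c : Ω} (hu : u ∈ U) (hc : c ∈ centralizerIn S T) :
    u * c = c * u := (mem_centralizerIn.1 hc).2 u (hU hu)

theorem exists_mul_of_mem_sup {U C : Subgroup Ω} (hcomm : ∀ u ∈ U, ∀ c ∈ C, u * c = c * u) {w : Ω}
    (hw : w ∈ U ⊔ C) : ∃ u ∈ U, ∃ c ∈ C, u * c = w := by
  have hle : U ≤ Subgroup.normalizer (C : Set Ω) :=
    le_trans (fun u hu => Subgroup.mem_centralizer_iff.2 fun c hc => (hcomm u hu c hc).symm)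
      (Subgroup.centralizer_le_normalizer _)
  rw [← SetLike.mem_coe, Subgroup.coe_mul_of_left_le_normalizer_right U C hle] at hw
  obtain ⟨u, hu, c, hc, rfl⟩ := hw
  exact ⟨u, hu, c, hc, rfl⟩

/-- extensions to `U ⊔ C` send `C` into the centralizer of the image -/
theorem conj_fix {U : Subgroup Ω} (hU : U ≤ T) {ψ : (U ⊔ centralizerIn S T : Subgroup Ω) →* Ω} {u c : Ω}
    (hu : u ∈ U) (hc : c ∈ centralizerIn S T) :
    ψ ⟨c, le_sup_right (a := U) hc⟩ * ψ ⟨u, le_sup_left (b := centralizerIn S T) hu⟩ =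
      ψ ⟨u, le_sup_left (b := centralizerIn S T) hu⟩ * ψ ⟨c, le_sup_right (a := U) hc⟩ := by
  rw [← map_mul, ← map_mul]
  exact congrArg ψ (Subtype.ext (comm_of_mem hU hu hc).symm)

/-- the offset of a good extension lies in the image -/
theorem offset_mem (_hE : E.IsWeaklyNormalIn F p) {U V : Subgroup Ω} (hU : U ≤ T) (hV : E.IsCentric V)
    {φ : U →* Ω} (hφ : φ.range = V) {ψ : (U ⊔ centralizerIn S T : Subgroup Ω) →* Ω}
    (he : ∀ (x : Ω) (hx : x ∈ U), ψ ⟨x, le_sup_left (b := centralizerIn S T) hx⟩ = φ ⟨x, hx⟩) {c : Ω}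
    (hc : c ∈ centralizerIn S T) (ht : c⁻¹ * ψ ⟨c, le_sup_right (a := U) hc⟩ ∈ T) :
    c⁻¹ * ψ ⟨c, le_sup_right (a := U) hc⟩ ∈ V := by
  refine hV.2 V (isConj_refl E hV.1) (mem_centralizerIn.2 ⟨ht, fun v hv => ?_⟩)
  obtain ⟨x, rfl⟩ := hφ.ge hv
  have h1 := conj_fix hU (ψ := ψ) x.2 hc
  rw [he x x.2] at h1
  have h2 : φ x * c⁻¹ = c⁻¹ * φ x := (Commute.inv_right (comm_of_mem hV.1 hv hc)).eq
  rw [← mul_assoc, h2, mul_assoc, ← h1, mul_assoc]

theorem Good.congr {U : Subgroup Ω} {φ ψ : U →* Ω} (h : Good F T U φ) (he : ∀ x, ψ x = φ x) : Good F T U ψ := by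
  obtain ⟨χ, hχ, h1, h2⟩ := h
  exact ⟨χ, hχ, fun x hx => (h1 x hx).trans (he _).symm, h2⟩

theorem Good.restrict {U V : Subgroup Ω} {φ : U →* Ω} {ψ : V →* Ω} (h : Good F T U φ) (hVU : V ≤ U)
    (he : ∀ x : V, ψ x = φ ⟨x, hVU x.2⟩) : Good F T V ψ := by
  obtain ⟨χ, hχ, h1, h2⟩ := h
  obtain ⟨χ', hχ', hχ'e⟩ := exists_restrict hχ (sup_le_sup_right hVU (centralizerIn S T))
  exact ⟨χ', hχ', fun x hx => by rw [hχ'e, he]; exact h1 x (hVU hx), fun c hc => by rw [hχ'e]; exact h2 c hc⟩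

theorem Good.comp (hE : E.IsWeaklyNormalIn F p) {U V : Subgroup Ω} (hU : U ≤ T) (hV : E.IsCentric V)
    {φ : U →* Ω} {ψ : V →* Ω} {χ : U →* Ω} (h₁ : Good F T U φ) (hr : φ.range = V) (h₂ : Good F T V ψ)
    (hψT : ∀ x, ψ x ∈ T) (he : ∀ x, χ x = ψ ⟨φ x, hr.le ⟨x, rfl⟩⟩) : Good F T U χ := by
  obtain ⟨a, ha, ha1, ha2⟩ := h₁
  obtain ⟨b, hb, hb1, hb2⟩ := h₂
  have hm : ∀ w, a w ∈ V ⊔ centralizerIn S T := by
    rintro ⟨w, hw⟩
    obtain ⟨u, hu, c, hc, rfl⟩ := exists_mul_of_mem_sup (fun u hu c hc => comm_of_mem hU hu hc) hw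
    have e : (⟨u * c, hw⟩ : (U ⊔ centralizerIn S T : Subgroup Ω)) =
        ⟨u, le_sup_left (b := centralizerIn S T) hu⟩ * ⟨c, le_sup_right (a := U) hc⟩ := rfl
    rw [e, map_mul]
    refine mul_mem (le_sup_left (b := centralizerIn S T) (by rw [ha1 u hu]; exact hr.le ⟨_, rfl⟩)) ?_
    have h1 := offset_mem hE hU hV hr ha1 hc (ha2 c hc)
    rw [← mul_inv_cancel_left c (a _)]
    exact mul_mem (le_sup_right (a := V) hc) (le_sup_left (b := centralizerIn S T) h1)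
  obtain ⟨χ', hχ', hχe⟩ := exists_comp ha hb hm
  refine ⟨χ', hχ', fun x hx => ?_, fun c hc => ?_⟩
  · rw [hχe, he, ← hb1 _ (hr.le ⟨⟨x, hx⟩, rfl⟩)]
    exact congrArg b (Subtype.ext (ha1 x hx))
  · rw [hχe]
    set t := c⁻¹ * a ⟨c, le_sup_right (a := U) hc⟩ with ht
    have htV : t ∈ V := offset_mem hE hU hV hr ha1 hc (ha2 c hc)
    have e : (⟨a ⟨c, le_sup_right (a := U) hc⟩, hm _⟩ : (V ⊔ centralizerIn S T : Subgroup Ω)) =
        ⟨c, le_sup_right (a := V) hc⟩ * ⟨t, le_sup_left (b := centralizerIn S T) htV⟩ :=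
      Subtype.ext (mul_inv_cancel_left c _).symm
    rw [e, map_mul, ← mul_assoc, hb1 t htV]
    exact mul_mem (hb2 c hc) (hψT _)

theorem Good.inv (hE : E.IsWeaklyNormalIn F p) {U V : Subgroup Ω} (hU : U ≤ T) (hV : E.IsCentric V)
    {φ : U →* Ω} {η : V →* Ω} (h : Good F T U φ) (hr : φ.range = V)
    (he : ∀ x : U, η ⟨φ x, hr.le ⟨x, rfl⟩⟩ = x) : Good F T V η := by
  obtain ⟨a, ha, ha1, ha2⟩ := h
  have hrange : V ⊔ centralizerIn S T ≤ a.range := by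
    refine sup_le ?_ fun c hc => ?_
    · rw [← hr]; rintro _ ⟨x, rfl⟩; exact ⟨_, ha1 x x.2⟩
    · have htV := offset_mem hE hU hV hr ha1 hc (ha2 c hc)
      obtain ⟨x, hx⟩ := hr.ge htV
      refine ⟨⟨c, le_sup_right (a := U) hc⟩ * ⟨(x : Ω)⁻¹, le_sup_left (b := centralizerIn S T) (inv_mem x.2)⟩, ?_⟩
      rw [map_mul, ha1 _ (inv_mem x.2), show (⟨(x : Ω)⁻¹, inv_mem x.2⟩ : U) = x⁻¹ from rfl, map_inv, hx,
        mul_inv_rev, inv_inv, ← mul_assoc, mul_inv_cancel, one_mul]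
  obtain ⟨b, hb, -, hbl, -⟩ := exists_inv ha rfl
  obtain ⟨b', hb', hb'e⟩ := exists_restrict hb hrange
  refine ⟨b', hb', fun y hy => ?_, fun c hc => ?_⟩
  · obtain ⟨x, rfl⟩ := hr.ge hy
    rw [hb'e, he]
    rw [show (⟨φ x, hrange (le_sup_left (b := centralizerIn S T) hy)⟩ : a.range) =
      ⟨a ⟨x, le_sup_left (b := centralizerIn S T) x.2⟩, _, rfl⟩ from Subtype.ext (ha1 x x.2).symm]
    exact hbl _ _
  · rw [hb'e]
    have htV := offset_mem hE hU hV hr ha1 hc (ha2 c hc)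
    obtain ⟨x, hx⟩ := hr.ge htV
    set w : (U ⊔ centralizerIn S T : Subgroup Ω) :=
      ⟨c, le_sup_right (a := U) hc⟩ * ⟨(x : Ω)⁻¹, le_sup_left (b := centralizerIn S T) (inv_mem x.2)⟩ with hw
    have hv : a w = c := by
      rw [hw, map_mul, ha1 _ (inv_mem x.2), show (⟨(x : Ω)⁻¹, inv_mem x.2⟩ : U) = x⁻¹ from rfl, map_inv, hx,
        mul_inv_rev, inv_inv, ← mul_assoc, mul_inv_cancel, one_mul]
    rw [show (⟨c, hrange (le_sup_right (a := V) hc)⟩ : a.range) = ⟨a w, w, rfl⟩ from Subtype.ext hv.symm,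
      hbl w ⟨w, rfl⟩]
    show c⁻¹ * (c * (x : Ω)⁻¹) ∈ T
    rw [inv_mul_cancel_left]
    exact inv_mem (hU x.2)

/-- The maps of `E` that are good on every centric subgroup of their source. -/
def goodSystem (hE : E.IsWeaklyNormalIn F p) (hS : IsPGroup p S) : FusionSystem T where
  Hom P := {φ | φ ∈ E.Hom P ∧ ∀ V, E.IsCentric V → ∀ h : V ≤ P, Good F T V (φ.comp (Subgroup.inclusion h))}
  le_of_mem h := E.le_of_mem h.1
  injective_of_mem h := E.injective_of_mem h.1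
  conj_mem := by
    intro P g hP hg
    refine ⟨E.conj_mem hP hg, fun V hV h => ?_⟩
    have hTS : T ≤ S := hE.2.2.2.1.1
    have hsup : V ⊔ centralizerIn S T ≤ S := sup_le (hV.1.trans hTS) (centralizerIn_le T)
    refine ⟨conjHom _ g, F.conj_mem hsup (hTS hg), fun x hx => rfl, fun c hc => ?_⟩
    rw [conjHom_apply, comm_of_mem le_rfl hg hc, mul_inv_cancel_right, inv_mul_cancel]
    exact one_mem _
  comp_mem := by
    intro P Q φ ψ hφ hψ hm
    refine ⟨E.comp_mem hφ.1 hψ.1 hm, fun V hV hle => ?_⟩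
    have hres := restrict_mem hφ.1 hle
    have hsub : (φ.comp (Subgroup.inclusion hle)).range ≤ Q := by rintro _ ⟨x, rfl⟩; exact hm _
    have hc := (kernel_of_weaklyNormal hS hE).centric_range hV (hE.2.2.1 _ hres)
    exact Good.comp hE hV.1 hc (hφ.2 V hV hle) rfl (hψ.2 _ hc hsub) (fun _ => apply_mem hψ.1 _) fun _ => rfl
  inv_mem := by
    intro P φ hφ
    obtain ⟨ψ, hψ, hψe⟩ := E.inv_mem hφ.1
    refine ⟨ψ, ⟨hψ, fun V hV hle => ?_⟩, hψe⟩
    have hres := restrict_mem hψ hle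
    set χ := ψ.comp (Subgroup.inclusion hle) with hχ
    have hW : χ.range ≤ P := by
      rintro _ ⟨x, rfl⟩
      obtain ⟨y, hy⟩ := hle x.2
      rw [hχ, MonoidHom.comp_apply, show Subgroup.inclusion hle x = ⟨φ y, y, rfl⟩ from Subtype.ext hy.symm, hψe]
      exact y.2
    have hval : ∀ x : V, φ ⟨χ x, hW ⟨x, rfl⟩⟩ = x := fun x => by
      obtain ⟨y, hy⟩ := hle x.2
      have h1 : χ x = y := by
        rw [hχ, MonoidHom.comp_apply, show Subgroup.inclusion hle x = ⟨φ y, y, rfl⟩ from Subtype.ext hy.symm, hψe]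
      rw [show (⟨χ x, hW ⟨x, rfl⟩⟩ : P) = y from Subtype.ext h1, hy]
    have hc := (kernel_of_weaklyNormal hS hE).centric_range hV (hE.2.2.1 _ hres)
    have hr : (φ.comp (Subgroup.inclusion hW)).range = V := by
      ext z
      constructor
      · rintro ⟨⟨_, x, rfl⟩, rfl⟩
        exact (congrArg (· ∈ V) (hval x)).mpr x.2
      · exact fun hz => ⟨⟨χ ⟨z, hz⟩, ⟨_, rfl⟩⟩, hval ⟨z, hz⟩⟩
    refine Good.inv hE hc.1 hV (hφ.2 _ hc hW) hr ?_
    rintro ⟨_, x, rfl⟩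
    exact congrArg χ (Subtype.ext (hval x))

end Good

section Key

variable (hS : IsPGroup p S) (hE : E.IsWeaklyNormalIn F p)

include hS hE

/-- The automorphisms of `p`-power order in the subsystem are good. -/
theorem good_pElt {U : Subgroup Ω} (hU : E.IsCentric U) {a : MulAut U} (ha : a ∈ E.autGroup U) {k : ℕ}
    (hk : a ^ p ^ k = 1) : Good F T U (U.subtype.comp a.toMonoidHom) := by
  have hF := hE.2.1
  have hcl := hE.2.2.2.1
  have hTS : T ≤ S := hcl.1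
  haveI := finite_sub hTS
  have hTp : IsPGroup p T := hS.to_le hTS
  have hC : ∀ {W : Subgroup Ω}, W ≤ T → centralizerIn S T ≤ centralizerIn S W := fun h => centralizerIn_anti h
  obtain ⟨R, ⟨π, hπ, hπr⟩, hRn⟩ := exists_isFullyNormalized F (hU.1.trans hTS)
  have hRT : R ≤ T := by
    rw [← hπr]; rintro _ ⟨x, rfl⟩
    exact FusionP3.StronglyClosed.apply_mem_of_stronglyClosed hcl hπ x (hU.1 x.2)
  have hRc : E.IsCentric R := hπr ▸ (kernel_of_weaklyNormal hS hE).centric_range hU hπ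
  have hrec := receptive_of_fullyNormalized hS hF hRn
  haveI := finite_sub (hRT.trans hTS)
  haveI := GT.finite_mulAut ↥R
  -- the conjugate automorphism
  have ha' := congr_mem_aut hE.2.2 hU.1 hπ hπr ha
  set a' := MulAut.congr (homEquiv hπ hπr) a with ha'def
  obtain ⟨Q, ⟨η, hη, hηr⟩, ⟨hQT, Ry, hRy⟩, -⟩ := hE.1 R hRT
  haveI := finite_sub hQT
  haveI := GT.finite_mulAut ↥Q
  obtain ⟨ν, hν, hνN, hνQ⟩ := exists_normalizer_map hS hF hRn (P := Q)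
    (isConj_symm ⟨η, hE.2.2.1 R hη, hηr⟩)
  have hQN : Q ≤ normalizerIn S Q := le_normalizerIn (hQT.trans hTS)
  set ν₀ : Q →* Ω := ν.comp (Subgroup.inclusion hQN) with hν₀
  have hν₀m : ν₀ ∈ F.Hom Q := restrict_mem hν hQN
  have hν₀r : ν₀.range = R := by rw [hν₀, ← map_subgroupOf_eq_range hQN]; exact hνQ
  obtain ⟨ι, hι, hιr, hιl, -⟩ := exists_inv hν₀m hν₀r
  have ha'' := congr_mem_aut hE.2.2 hRT hι hιr ha'
  set a'' := MulAut.congr (homEquiv hι hιr) a' with ha''def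
  have hsymm : ∀ y : Q, homEquiv hι hιr (homEquiv hν₀m hν₀r y) = y := fun y =>
    Subtype.ext (hιl y (hν₀r.le ⟨y, rfl⟩))
  obtain ⟨b, hb, hbt⟩ := exists_conj_le_sylow Ry hRy (T := Subgroup.zpowers a'') (Subgroup.zpowers_le.2 ha'')
    (by
      refine (IsPGroup.iff_card).2 ?_
      rw [Nat.card_zpowers]
      obtain ⟨j, -, hj⟩ := (Nat.dvd_prime_pow (Fact.out : p.Prime)).1
        (orderOf_dvd_of_pow_eq_one (show a'' ^ p ^ k = 1 by
          rw [ha''def, ha'def, ← map_pow, ← map_pow, hk, map_one, map_one]))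
      exact ⟨j, hj⟩)
  obtain ⟨g, hg, hge⟩ := mem_autInducedBy.1 (hbt a'' (Subgroup.mem_zpowers a''))
  have hgN : g ∈ normalizerIn S Q := ⟨hTS hg, mem_normalizer_of_aut hge⟩
  set m : Ω := ν ⟨g, hgN⟩ with hmdef
  have hmT : m ∈ T := FusionP3.StronglyClosed.apply_mem_of_stronglyClosed hcl hν _ hg
  have hmN : m ∈ normalizerIn S R := hνN _
  set b' := MulAut.congr (homEquiv hν₀m hν₀r) b with hb'def
  have hb' : b' ∈ F.autGroup R := congr_mem_autGroup hν₀m hν₀r (GT.autGroup_mono hE.2.2.1 hQT hb)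
  have hconj : ∀ y : R, ((b' (a' y) : R) : Ω) = m * (b' y : R) * m⁻¹ := fun y => by
    obtain ⟨x, rfl⟩ := (homEquiv hν₀m hν₀r).surjective y
    have e1 : a'' x = homEquiv hι hιr (a' (homEquiv hν₀m hν₀r x)) := by
      rw [ha''def]
      show homEquiv hι hιr (a' ((homEquiv hι hιr).symm x)) = _
      rw [show (homEquiv hι hιr).symm x = homEquiv hν₀m hν₀r x from
        (MulEquiv.symm_apply_eq _).2 (hsymm x).symm]
    have e2 : a' (homEquiv hν₀m hν₀r x) = homEquiv hν₀m hν₀r (a'' x) := by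
      obtain ⟨z, hz⟩ := (homEquiv hν₀m hν₀r).surjective (a' (homEquiv hν₀m hν₀r x))
      rw [e1, ← hz, hsymm]
    have e3 : ∀ z, b' (homEquiv hν₀m hν₀r z) = homEquiv hν₀m hν₀r (b z) := fun z => by
      show homEquiv hν₀m hν₀r (b ((homEquiv hν₀m hν₀r).symm (homEquiv hν₀m hν₀r z))) = _
      rw [MulEquiv.symm_apply_apply]
    rw [e2, e3, e3]
    have e4 := hge (b x)
    rw [MulAut.mul_apply, MulAut.mul_apply, MulAut.inv_apply_self] at e4
    show ν ⟨((b (a'' x) : Q) : Ω), _⟩ = m * ν ⟨((b x : Q) : Ω), _⟩ * m⁻¹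
    rw [hmdef, ← map_inv ν, ← map_mul, ← map_mul]
    exact congrArg ν (Subtype.ext e4)
  -- extend `b'` over the centralizer
  set X : Subgroup Ω := R ⊔ centralizerIn S R with hX
  have hXN : X ≤ normalizerIn S R := sup_le (le_normalizerIn (hRT.trans hTS)) (centralizerIn_le_normalizerIn R)
  have hXc : ∀ u ∈ R, ∀ c ∈ centralizerIn S R, u * c = c * u := fun u hu c hc => (mem_centralizerIn.1 hc).2 u hu
  have hRX : R ≤ X := le_sup_left
  have hCX : centralizerIn S R ≤ X := le_sup_right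
  obtain ⟨B, hB, hBe⟩ := Induction.exists_extend_aut hrec hXN hb' (by
    intro w hw
    obtain ⟨r, hr, c, hc, rfl⟩ := exists_mul_of_mem_sup hXc hw
    refine ⟨((b' ⟨r, hr⟩ : R) : Ω), (hRT.trans hTS) (b' _).2, fun x hx => ?_⟩
    have h0 : r * c * (x : Ω) * (r * c)⁻¹ = r * x * r⁻¹ := by
      have := hXc x x.2 c hc
      calc r * c * (x : Ω) * (r * c)⁻¹ = r * (c * x) * c⁻¹ * r⁻¹ := by group
        _ = r * x * r⁻¹ := by rw [← this]; group
    rw [show (⟨r * c * (x : Ω) * (r * c)⁻¹, hx⟩ : R) = ⟨r, hr⟩ * x * ⟨r, hr⟩⁻¹ from Subtype.ext h0, map_mul,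
      map_mul, map_inv]
    rfl)
  have hBC : ∀ c (hc : c ∈ centralizerIn S R), B ⟨c, hCX hc⟩ ∈ centralizerIn S R := fun c hc => by
    refine ⟨apply_mem hB _, fun y hy => ?_⟩
    obtain ⟨x, hx⟩ := b'.surjective ⟨y, hy⟩
    have e : y = B ⟨x, hRX x.2⟩ := by rw [hBe x x.2]; exact (congrArg Subtype.val hx).symm
    rw [e, ← map_mul, ← map_mul]
    exact congrArg B (Subtype.ext (hXc x x.2 c hc))
  have hXfin : Finite X := finite_sub (hXN.trans (normalizerIn_le R))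
  have hBr : B.range = X := range_eq_of_mem hB (fun w => by
    obtain ⟨r, hr, c, hc, h⟩ := exists_mul_of_mem_sup hXc w.2
    rw [show w = ⟨r, hRX hr⟩ * ⟨c, hCX hc⟩ from Subtype.ext h.symm, map_mul, hBe r hr]
    exact mul_mem (hRX (b' _).2) (hCX (hBC c hc))) le_rfl
  obtain ⟨B', hB', -, hB'l, hB'r⟩ := exists_inv hB hBr
  -- conjugation by `m` on `X`
  have hmS : m ∈ S := (mem_normalizerIn.1 hmN).1
  have hmC : ∀ c ∈ centralizerIn S R, m * c * m⁻¹ ∈ centralizerIn S R := fun c hc => by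
    refine ⟨S.mul_mem (S.mul_mem hmS hc.1) (S.inv_mem hmS), fun y hy => ?_⟩
    have hy' := conj_inv_mem_of_normalizer (mem_normalizerIn.1 hmN).2 hy
    have := hXc _ hy' c hc
    calc y * (m * c * m⁻¹) = m * ((m⁻¹ * y * m) * c) * m⁻¹ := by group
      _ = m * c * m⁻¹ * y := by rw [this]; group
  have hmX : ∀ w : X, conjHom X m w ∈ X := fun w => by
    obtain ⟨r, hr, c, hc, h⟩ := exists_mul_of_mem_sup hXc w.2
    rw [conjHom_apply, ← h, show m * (r * c) * m⁻¹ = (m * r * m⁻¹) * (m * c * m⁻¹) by group]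
    exact mul_mem (hRX (conj_mem_of_normalizer (mem_normalizerIn.1 hmN).2 hr)) (hCX (hmC c hc))
  obtain ⟨A₁, hA₁, hA₁e⟩ := exists_comp hB (F.conj_mem (hXN.trans (normalizerIn_le R)) hmS)
    (fun w => hBr.le ⟨w, rfl⟩)
  obtain ⟨A, hA, hAe⟩ := exists_comp hA₁ hB' (fun w => by rw [hA₁e]; exact hmX _)
  have hAR : ∀ y : R, A ⟨y, hRX y.2⟩ = ((a' y : R) : Ω) := fun y => by
    rw [hAe]
    have e : A₁ ⟨y, hRX y.2⟩ = B ⟨((a' y : R) : Ω), hRX (a' y).2⟩ := by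
      rw [hA₁e, conjHom_apply, hBe _ (a' y).2]
      show m * B ⟨y, hRX y.2⟩ * m⁻¹ = _
      rw [hBe y y.2]
      exact (hconj y).symm
    exact (congrArg B' (Subtype.ext e)).trans (hB'l _ (e ▸ (hA₁e ⟨y, hRX y.2⟩).symm ▸ hmX _))
  have hAC : ∀ c (hc : c ∈ centralizerIn S R), c⁻¹ * A ⟨c, hCX hc⟩ ∈ R := fun c hc => by
    have hy := hBC c hc
    set y := B ⟨c, hCX hc⟩ with hydef
    have htR : y⁻¹ * (m * y * m⁻¹) ∈ R := by
      refine hRc.2 R (isConj_refl E hRT) (mem_centralizerIn.2 ⟨?_, ?_⟩)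
      · rw [show y⁻¹ * (m * y * m⁻¹) = (y⁻¹ * m * y) * m⁻¹ by group]
        refine mul_mem ?_ (inv_mem hmT)
        have h1 := FusionP3.StronglyClosed.apply_mem_of_stronglyClosed hcl
          (F.conj_mem le_rfl (inv_mem hy.1)) ⟨m, hmS⟩ hmT
        simpa using h1
      · exact fun x hx => (mem_centralizerIn.1 (mul_mem (inv_mem hy) (hmC y hy))).2 x hx
    obtain ⟨x, hx⟩ := b'.surjective ⟨_, htR⟩
    have e : A₁ ⟨c, hCX hc⟩ = B (⟨c, hCX hc⟩ * ⟨x, hRX x.2⟩) := by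
      rw [map_mul, hBe x x.2, hA₁e, conjHom_apply,
        show ((b' ⟨(x : Ω), x.2⟩ : R) : Ω) = y⁻¹ * (m * y * m⁻¹) from congrArg Subtype.val hx]
      show m * B ⟨c, hCX hc⟩ * m⁻¹ = y * (y⁻¹ * (m * y * m⁻¹))
      rw [mul_inv_cancel_left, hydef]
    rw [hAe]
    have e2 : B' ⟨A₁ ⟨c, hCX hc⟩, (hA₁e _).symm ▸ hmX _⟩ = c * x :=
      (congrArg B' (Subtype.ext e : _ = (⟨_, hBr.le ⟨_, rfl⟩⟩ : X))).trans (hB'l _ (hBr.le ⟨_, rfl⟩))
    rw [e2, inv_mul_cancel_left]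
    exact x.2
  -- back to `U`
  set W : Subgroup Ω := U ⊔ centralizerIn S T with hW
  have hWc : ∀ u ∈ U, ∀ c ∈ centralizerIn S T, u * c = c * u := fun u hu c hc => comm_of_mem hU.1 hu hc
  have hWN : W ≤ extender S U π := sup_le (le_extender (hU.1.trans hTS) (apply_mem hπ))
    ((hC hU.1).trans (centralizerIn_le_extender U π))
  obtain ⟨π₁, hπ₁, hπ₁e⟩ := hrec.2 U π hπ hπr
  obtain ⟨ρ, hρ, hρe'⟩ := exists_restrict hπ₁ hWN
  have hUW : U ≤ W := le_sup_left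
  have hCW : centralizerIn S T ≤ W := le_sup_right
  have hρU : ∀ x : U, ρ ⟨x, hUW x.2⟩ = π x := fun x => by
    rw [hρe']; exact hπ₁e x x.2 _
  have hρC : ∀ c (hc : c ∈ centralizerIn S T), ρ ⟨c, hCW hc⟩ ∈ centralizerIn S R := fun c hc => by
    refine ⟨apply_mem hρ _, fun y hy => ?_⟩
    obtain ⟨x, rfl⟩ := hπr.ge hy
    rw [← hρU, ← map_mul, ← map_mul]
    exact congrArg ρ (Subtype.ext (hWc x x.2 c hc))
  have hρX : ∀ w, ρ w ∈ X := fun w => by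
    obtain ⟨u, hu, c, hc, h⟩ := exists_mul_of_mem_sup hWc w.2
    rw [show w = ⟨u, hUW hu⟩ * ⟨c, hCW hc⟩ from Subtype.ext h.symm, map_mul, hρU ⟨u, hu⟩]
    exact mul_mem (hRX (hπr.le ⟨_, rfl⟩)) (hCX (hρC c hc))
  obtain ⟨χ, hχ, hχe⟩ := exists_comp hρ hA hρX
  obtain ⟨ρ', hρ', -, hρl, -⟩ := exists_inv hρ rfl
  have hχU : ∀ x : U, χ ⟨x, hUW x.2⟩ = ρ ⟨(a x : U), hUW (a x).2⟩ := fun x => by
    rw [hχe, hρU (a x)]
    refine (congrArg A (Subtype.ext (hρU x) : (⟨ρ ⟨x, hUW x.2⟩, _⟩ : X) = ⟨π x, hRX (hπr.le ⟨x, rfl⟩)⟩)).trans ?_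
    rw [hAR ⟨π x, hπr.le ⟨x, rfl⟩⟩]
    show π (a ((homEquiv hπ hπr).symm (homEquiv hπ hπr x))) = _
    rw [MulEquiv.symm_apply_apply]
  have hχC : ∀ c (hc : c ∈ centralizerIn S T), ∃ x : U,
      χ ⟨c, hCW hc⟩ = ρ (⟨c, hCW hc⟩ * ⟨x, hUW x.2⟩) := fun c hc => by
    obtain ⟨x, hx⟩ := hπr.ge (hAC _ (hρC c hc))
    exact ⟨x, by rw [map_mul, hρU, hx, hχe, mul_inv_cancel_left]⟩
  have hχr : ∀ w, χ w ∈ ρ.range := fun w => by
    obtain ⟨u, hu, c, hc, h⟩ := exists_mul_of_mem_sup hWc w.2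
    rw [show w = ⟨u, hUW hu⟩ * ⟨c, hCW hc⟩ from Subtype.ext h.symm, map_mul]
    obtain ⟨x, hx⟩ := hχC c hc
    exact mul_mem ⟨_, (hχU ⟨u, hu⟩).symm⟩ ⟨_, hx.symm⟩
  obtain ⟨ψ, hψ, hψe⟩ := exists_comp hχ hρ' hχr
  refine ⟨ψ, hψ, fun x hx => ?_, fun c hc => ?_⟩
  · rw [hψe]
    exact (congrArg ρ' (Subtype.ext (hχU ⟨x, hx⟩) : _ = (⟨ρ ⟨(a ⟨x, hx⟩ : U), hUW (a ⟨x, hx⟩).2⟩, ⟨_, rfl⟩⟩ : ρ.range))).trans (hρl _ _)
  · obtain ⟨x, hx⟩ := hχC c hc
    rw [hψe, show ρ' ⟨χ ⟨c, hCW hc⟩, hχr _⟩ = c * x from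
      (congrArg ρ' (Subtype.ext hx : _ = (⟨ρ _, ⟨_, rfl⟩⟩ : ρ.range))).trans (hρl _ _), inv_mul_cancel_left]
    exact hU.1 x.2

theorem gen0_le_good :
    haveI := finite_sub hE.2.2.2.1.1
    (gen0 E p).IsSubsystemOf (goodSystem hE hS) := by
  haveI := finite_sub hE.2.2.2.1.1
  refine gen0_least fun P hP _ => pp_le_iff.2 fun a ha k hk => (mem_autGroup hP.1).2 ?_
  exact ⟨(mem_autGroup hP.1).1 ha, fun V _ hle => (good_pElt hS hE hP ha hk).restrict hle fun _ => rfl⟩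

/-- An automorphism fixing a centric subgroup, up to a power of `p`, is congruent on `C_S(T)` to one fixing `T`. -/
theorem exists_fix_base {U : Subgroup Ω} (hU : E.IsCentric U) {π : MulAut ↥(U ⊔ centralizerIn S T)}
    (hπ : π ∈ F.autGroup (U ⊔ centralizerIn S T))
    (hfix : ∀ (x : Ω) (hx : x ∈ U),
      π ⟨x, le_sup_left (b := centralizerIn S T) hx⟩ = ⟨x, le_sup_left (b := centralizerIn S T) hx⟩) :
    ∃ j : ℕ, ∃ π' ∈ F.autGroup (T ⊔ centralizerIn S T),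
      (∀ (x : Ω) (hx : x ∈ T),
        π' ⟨x, le_sup_left (b := centralizerIn S T) hx⟩ = ⟨x, le_sup_left (b := centralizerIn S T) hx⟩) ∧
      ∀ (c : Ω) (hc : c ∈ centralizerIn S T),
        (((π ^ p ^ j) ⟨c, le_sup_right (a := U) hc⟩ : ↥(U ⊔ centralizerIn S T)) : Ω)⁻¹ *
          ((π' ⟨c, le_sup_right (a := T) hc⟩ : ↥(T ⊔ centralizerIn S T)) : Ω) ∈ T := by
  have hF := hE.2.1
  have hcl := hE.2.2.2.1
  have hTS : T ≤ S := hcl.1
  haveI := finite_sub hTS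
  have hTp : IsPGroup p T := hS.to_le hTS
  obtain ⟨a, haT⟩ := (IsPGroup.iff_card).1 hTp
  suffices key : ∀ (r : ℕ) (U : Subgroup Ω), E.IsCentric U → Nat.card T - Nat.card U ≤ r →
      ∀ π : MulAut ↥(U ⊔ centralizerIn S T), π ∈ F.autGroup (U ⊔ centralizerIn S T) →
      (∀ (x : Ω) (hx : x ∈ U),
        π ⟨x, le_sup_left (b := centralizerIn S T) hx⟩ = ⟨x, le_sup_left (b := centralizerIn S T) hx⟩) →
      ∃ j : ℕ, ∃ π' ∈ F.autGroup (T ⊔ centralizerIn S T),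
        (∀ (x : Ω) (hx : x ∈ T),
          π' ⟨x, le_sup_left (b := centralizerIn S T) hx⟩ = ⟨x, le_sup_left (b := centralizerIn S T) hx⟩) ∧
        ∀ (c : Ω) (hc : c ∈ centralizerIn S T),
          (((π ^ p ^ j) ⟨c, le_sup_right (a := U) hc⟩ : ↥(U ⊔ centralizerIn S T)) : Ω)⁻¹ *
            ((π' ⟨c, le_sup_right (a := T) hc⟩ : ↥(T ⊔ centralizerIn S T)) : Ω) ∈ T from
    key _ U hU le_rfl π hπ hfix
  clear hU hπ hfix π U
  intro r
  induction r using Nat.strong_induction_on with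
  | _ r ih =>
    intro U hU hr
    rcases hU.1.lt_or_eq with hlt | heq
    swap
    · subst heq
      exact fun π hπ hfix => ⟨0, π, hπ, hfix, fun c hc => by simp⟩
    set C := centralizerIn S T with hC
    set W : Subgroup Ω := U ⊔ C with hW
    intro π hπ hfix
    have hUW : U ≤ W := le_sup_left
    have hCW : C ≤ W := le_sup_right
    have hCS : C ≤ S := centralizerIn_le T
    have hWS : W ≤ S := sup_le (hU.1.trans hTS) hCS
    haveI := finite_sub hWS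
    haveI := GT.finite_mulAut ↥W
    have hcomm : ∀ u ∈ U, ∀ c ∈ C, u * c = c * u := fun u hu c hc => comm_of_mem hU.1 hu hc
    set N := normalizerIn T U with hN
    have hNT : N ≤ T := normalizerIn_le U
    have hUN : U ≤ N := le_normalizerIn hU.1
    have hNc : E.IsCentric N := FusionEssential.Centric.isCentric_overgroup hU hUN hNT
    haveI := finite_sub hU.1
    have hNW : ∀ n ∈ N, ∀ w ∈ W, n * w * n⁻¹ ∈ W := fun n hn w hw => by
      obtain ⟨u, hu, c, hc, rfl⟩ := exists_mul_of_mem_sup hcomm hw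
      have hnc : n * c = c * n := comm_of_mem le_rfl (hNT hn) hc
      rw [show n * (u * c) * n⁻¹ = (n * u * n⁻¹) * (n * c * n⁻¹) by group, hnc, mul_inv_cancel_right]
      exact mul_mem (hUW (conj_mem_of_normalizer hn.2 hu)) (hCW hc)
    -- the group of automorphisms acting on `U` through `N` and trivially modulo `U` on `C`
    let Φ : Subgroup (MulAut W) :=
      { carrier := {γ | γ ∈ F.autGroup W ∧ (∃ n ∈ N, ∀ (x : Ω) (hx : x ∈ U), ((γ ⟨x, hUW hx⟩ : W) : Ω) = n * x * n⁻¹) ∧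
          ∀ (c : Ω) (hc : c ∈ C), c⁻¹ * ((γ ⟨c, hCW hc⟩ : W) : Ω) ∈ U}
        one_mem' := ⟨one_mem _, ⟨1, one_mem _, fun x hx => by simp⟩, fun c hc => by simp⟩
        mul_mem' := by
          rintro γ δ ⟨hγ, ⟨n, hn, hγn⟩, hγc⟩ ⟨hδ, ⟨n', hn', hδn⟩, hδc⟩
          refine ⟨(F.autGroup W).mul_mem hγ hδ, ⟨n * n', mul_mem hn hn', fun x hx => ?_⟩, fun c hc => ?_⟩
          · have hx' : n' * x * n'⁻¹ ∈ U := conj_mem_of_normalizer hn'.2 hx
            rw [MulAut.mul_apply, show δ ⟨x, hUW hx⟩ = ⟨_, hUW hx'⟩ from Subtype.ext (hδn x hx), hγn _ hx']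
            group
          · have hu := hδc c hc
            rw [MulAut.mul_apply, show δ ⟨c, hCW hc⟩ = ⟨c, hCW hc⟩ * ⟨_, hUW hu⟩ from
              Subtype.ext (mul_inv_cancel_left c _).symm, map_mul, Subgroup.coe_mul, ← mul_assoc, hγn _ hu]
            exact mul_mem (hγc c hc) (conj_mem_of_normalizer hn.2 hu)
        inv_mem' := by
          rintro γ ⟨hγ, ⟨n, hn, hγn⟩, hγc⟩
          have hU' : ∀ (x : Ω) (hx : x ∈ U), ((γ⁻¹ ⟨x, hUW hx⟩ : W) : Ω) = n⁻¹ * x * (n⁻¹)⁻¹ := fun x hx => by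
            have hx' : n⁻¹ * x * (n⁻¹)⁻¹ ∈ U := conj_mem_of_normalizer (N.inv_mem hn).2 hx
            have e : γ ⟨_, hUW hx'⟩ = ⟨x, hUW hx⟩ := Subtype.ext (by rw [hγn _ hx']; group)
            rw [← e, MulAut.inv_apply_self]
          refine ⟨(F.autGroup W).inv_mem hγ, ⟨n⁻¹, N.inv_mem hn, hU'⟩, fun c hc => ?_⟩
          have hu := hγc c hc
          have hu' : ((γ⁻¹ ⟨_, hUW hu⟩ : W) : Ω) ∈ U := by
            rw [hU' _ hu]; exact conj_mem_of_normalizer (N.inv_mem hn).2 hu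
          have e := congrArg (fun z => ((γ⁻¹ z : W) : Ω)) (show γ ⟨c, hCW hc⟩ = ⟨c, hCW hc⟩ * ⟨_, hUW hu⟩ from
              Subtype.ext (mul_inv_cancel_left c _).symm)
          simp only [map_mul, MulAut.inv_apply_self, Subgroup.coe_mul] at e
          rw [← mul_inv_eq_iff_eq_mul] at e
          rw [← e, inv_mul_cancel_left]
          exact inv_mem hu' }
    have hΦp : IsPGroup p Φ := by
      rintro ⟨γ, hγ, ⟨n, hn, hγn⟩, hγc⟩
      refine ⟨a + a, Subtype.ext ?_⟩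
      show γ ^ p ^ (a + a) = 1
      have hnk : ∀ (k : ℕ) (x : Ω) (hx : x ∈ U), (((γ ^ k) ⟨x, hUW hx⟩ : W) : Ω) = n ^ k * x * (n ^ k)⁻¹ := by
        intro k
        induction k with
        | zero => intro x hx; simp
        | succ k ihk =>
          intro x hx
          have hx' : n * x * n⁻¹ ∈ U := conj_mem_of_normalizer hn.2 hx
          rw [pow_succ γ, MulAut.mul_apply, show γ ⟨x, hUW hx⟩ = ⟨_, hUW hx'⟩ from Subtype.ext (hγn x hx),
            ihk _ hx', pow_succ]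
          group
      have hone : ∀ y : Ω, y ∈ T → y ^ p ^ a = 1 := fun y hy =>
        congrArg Subtype.val (haT ▸ pow_card_eq_one' : (⟨y, hy⟩ : T) ^ p ^ a = 1)
      have hmem : γ ^ p ^ a ∈ {γ : MulAut W | (∀ (x : Ω) (hx : x ∈ U), γ ⟨x, hUW hx⟩ = ⟨x, hUW hx⟩) ∧
          ∀ (c : Ω) (hc : c ∈ C), c⁻¹ * ((γ ⟨c, hCW hc⟩ : W) : Ω) ∈ U} := by
        refine ⟨fun x hx => Subtype.ext (by rw [hnk _ x hx, hone n (hNT hn)]; simp), fun c hc => ?_⟩
        have hcl' : ∀ k : ℕ, c⁻¹ * (((γ ^ k) ⟨c, hCW hc⟩ : W) : Ω) ∈ U := by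
          intro k
          induction k with
          | zero => simp
          | succ k ihk =>
            have hu := hγc c hc
            rw [pow_succ γ, MulAut.mul_apply, show γ ⟨c, hCW hc⟩ = ⟨c, hCW hc⟩ * ⟨_, hUW hu⟩ from
              Subtype.ext (mul_inv_cancel_left c _).symm, map_mul, Subgroup.coe_mul, ← mul_assoc, hnk k _ hu]
            exact mul_mem ihk (conj_mem_of_normalizer (N.pow_mem hn k).2 hu)
        exact hcl' _
      set δ := γ ^ p ^ a with hδ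
      obtain ⟨hδU, hδc⟩ := hmem
      rw [pow_add, pow_mul, ← hδ]
      have hpow : ∀ (k : ℕ) (c : Ω) (hc : c ∈ C),
          (((δ ^ k) ⟨c, hCW hc⟩ : W) : Ω) = c * (c⁻¹ * ((δ ⟨c, hCW hc⟩ : W) : Ω)) ^ k := by
        intro k
        induction k with
        | zero => intro c hc; simp
        | succ k ihk =>
          intro c hc
          set z := (⟨c⁻¹ * ((δ ⟨c, hCW hc⟩ : W) : Ω), hδc c hc⟩ : U) with hz
          rw [pow_succ' δ, MulAut.mul_apply, show (δ ^ k) ⟨c, hCW hc⟩ = ⟨c, hCW hc⟩ * ⟨(z : Ω) ^ k, hUW (U.pow_mem z.2 k)⟩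
            from Subtype.ext (ihk c hc), map_mul, hδU _ (U.pow_mem z.2 k), Subgroup.coe_mul, pow_succ', ← mul_assoc c,
            mul_inv_cancel_left]
      refine MulEquiv.ext fun w => ?_
      obtain ⟨u, hu, c, hc, h⟩ := exists_mul_of_mem_sup hcomm w.2
      rw [MulAut.one_apply, show w = ⟨u, hUW hu⟩ * ⟨c, hCW hc⟩ from Subtype.ext h.symm, map_mul]
      congr 1
      · have : ∀ k : ℕ, (δ ^ k) ⟨u, hUW hu⟩ = ⟨u, hUW hu⟩ := fun k => by
          induction k with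
          | zero => simp
          | succ k ihk => rw [pow_succ, MulAut.mul_apply, hδU u hu, ihk]
        exact this _
      · exact Subtype.ext (by rw [hpow _ c hc, hone _ (hU.1 (hδc c hc)), mul_one])
    -- `π` normalizes it
    have hfix' : ∀ (x : Ω) (hx : x ∈ U), π⁻¹ ⟨x, hUW hx⟩ = ⟨x, hUW hx⟩ := fun x hx => by
      conv_lhs => rw [← hfix x hx]
      rw [MulAut.inv_apply_self]
    have hπΦ : ∀ γ ∈ Φ, π * γ * π⁻¹ ∈ Φ := by
      rintro γ ⟨hγ, ⟨n, hn, hγn⟩, hγc⟩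
      refine ⟨(F.autGroup W).mul_mem ((F.autGroup W).mul_mem hπ hγ) ((F.autGroup W).inv_mem hπ),
        ⟨n, hn, fun x hx => ?_⟩, fun c hc => ?_⟩
      · have hx' : n * x * n⁻¹ ∈ U := conj_mem_of_normalizer hn.2 hx
        rw [MulAut.mul_apply, MulAut.mul_apply, hfix' x hx,
          show γ ⟨x, hUW hx⟩ = ⟨_, hUW hx'⟩ from Subtype.ext (hγn x hx), hfix _ hx']
      · obtain ⟨u, hu, c', hc', h⟩ := exists_mul_of_mem_sup hcomm (π⁻¹ ⟨c, hCW hc⟩).2
        have hu2 : n * u * n⁻¹ ∈ U := conj_mem_of_normalizer hn.2 hu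
        have hu3 := hγc c' hc'
        have hk : u⁻¹ * (n * u * n⁻¹) ∈ U := mul_mem (inv_mem hu) hu2
        have hv : u⁻¹ * (n * u * n⁻¹) * (c'⁻¹ * ((γ ⟨c', hCW hc'⟩ : W) : Ω)) ∈ U := mul_mem hk hu3
        have e : γ (π⁻¹ ⟨c, hCW hc⟩) = π⁻¹ ⟨c, hCW hc⟩ * ⟨_, hUW hv⟩ := by
          rw [show π⁻¹ ⟨c, hCW hc⟩ = ⟨u, hUW hu⟩ * ⟨c', hCW hc'⟩ from Subtype.ext h.symm, map_mul]
          apply Subtype.ext
          simp only [Subgroup.coe_mul, hγn u hu]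
          rw [mul_assoc u c', ← mul_assoc c', ← hcomm _ hk c' hc']
          group
        rw [MulAut.mul_apply, MulAut.mul_apply, e, map_mul, MulAut.apply_inv_self, hfix _ hv, Subgroup.coe_mul,
          inv_mul_cancel_left]
        exact hv
    -- move to a fully normalized conjugate
    obtain ⟨R, ⟨φ₀, hφ₀, hφ₀r⟩, hRn⟩ := exists_isFullyNormalized F hWS
    haveI := finite_sub hRn.1
    haveI := GT.finite_mulAut ↥R
    have hrec := receptive_of_fullyNormalized hS hF hRn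
    obtain ⟨Ry, hRy⟩ := (fullyAutomized_of_fullyNormalized hS hF hRn).2
    obtain ⟨b, hb, hbt⟩ := exists_conj_le_sylow Ry hRy
      (T := Φ.map (MulAut.congr (homEquiv hφ₀ hφ₀r)).toMonoidHom)
      (by rintro _ ⟨γ, hγ, rfl⟩; exact congr_mem_autGroup hφ₀ hφ₀r hγ.1) (hΦp.map _)
    obtain ⟨β, hβ, hβr, hβe⟩ := exists_hom_of_aut hRn.1 hb
    obtain ⟨μ, hμ, hμe⟩ := exists_comp hφ₀ hβ fun x => hφ₀r.le ⟨x, rfl⟩
    have hμR : ∀ x, μ x ∈ R := fun x => by rw [hμe, hβe]; exact (b _).2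
    have hμr : μ.range = R := range_eq_of_mem hμ hμR (by rw [← hφ₀r, card_range hφ₀])
    have hcard : Nat.card R ≤ Nat.card W := by rw [← hφ₀r, card_range hφ₀]
    have hΦ : ∀ γ ∈ Φ, ∃ h ∈ S, ∀ x : W, μ (γ x) = h * μ x * h⁻¹ := fun γ hγ => by
      obtain ⟨h, hh, he⟩ := mem_autInducedBy.1 (hbt _ ⟨γ, hγ, rfl⟩)
      refine ⟨h, hh, fun x => ?_⟩
      have h1 := he (b (homEquiv hφ₀ hφ₀r x))
      rw [MulAut.mul_apply, MulAut.mul_apply, MulAut.inv_apply_self] at h1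
      have e1 : ∀ y, μ y = ((b (homEquiv hφ₀ hφ₀r y) : R) : Ω) := fun y => by
        rw [hμe, hβe]; rfl
      rw [e1, e1, ← h1]
      show _ = ((b (homEquiv hφ₀ hφ₀r (γ ((homEquiv hφ₀ hφ₀r).symm (homEquiv hφ₀ hφ₀r x)))) : R) : Ω)
      rw [MulEquiv.symm_apply_apply]
    set W' : Subgroup Ω := N ⊔ C with hW'
    have hNW' : N ≤ W' := le_sup_left
    have hCW' : C ≤ W' := le_sup_right
    have hWW' : W ≤ W' := sup_le_sup_right hUN C
    have hcommN : ∀ n ∈ N, ∀ c ∈ C, n * c = c * n := fun n hn c hc => comm_of_mem hNT hn hc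
    have hW'S : W' ≤ S := sup_le (hNT.trans hTS) hCS
    haveI := finite_sub hW'S
    -- both `μ` and `μ ∘ π` extend over `N`
    have hext : ∀ κ : W →* Ω, κ ∈ F.Hom W → κ.range = R →
        (∀ γ ∈ Φ, ∃ h ∈ S, ∀ x : W, κ (γ x) = h * κ x * h⁻¹) →
        ∃ κ' ∈ F.Hom W', ∀ x : W, κ' ⟨x, hWW' x.2⟩ = κ x := by
      intro κ hκ hκr hκΦ
      obtain ⟨κ₁, hκ₁, hκ₁e⟩ := hrec.2 W κ hκ hκr
      have hWext : W ≤ extender S W κ := le_extender hWS (apply_mem hκ)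
      have hle : W' ≤ extender S W κ := by
        refine sup_le (fun n hn => ?_) (hCW.trans hWext)
        have hnn : n ∈ Subgroup.normalizer (W : Set Ω) := mem_normalizer_of_conj_mem (hNW n hn)
        set γ := W.normalizerMonoidHom ⟨n, hnn⟩
        have hγ : γ ∈ Φ := by
          refine ⟨autInducedBy_le_autGroup F hWS (mem_autInducedBy.2 ⟨n, hTS (hNT hn), fun _ => rfl⟩),
            ⟨n, hn, fun x hx => rfl⟩, fun c hc => ?_⟩
          show c⁻¹ * (n * c * n⁻¹) ∈ U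
          rw [hcommN n hn c hc, mul_inv_cancel_right, inv_mul_cancel]
          exact one_mem _
        obtain ⟨h, hh, he⟩ := hκΦ γ hγ
        exact mem_extender_of ⟨hTS (hNT hn), hnn⟩ hh fun x hx => he x
      obtain ⟨κ', hκ', hκ'e⟩ := exists_restrict hκ₁ hle
      exact ⟨κ', hκ', fun x => by rw [hκ'e]; exact hκ₁e x x.2 _⟩
    obtain ⟨μ', hμ', hμ'e⟩ := hext μ hμ hμr hΦ
    obtain ⟨πh, hπh, hπhr, hπhe⟩ := exists_hom_of_aut hWS hπ
    obtain ⟨κ, hκ, hκe⟩ := exists_comp hπh hμ fun x => hπhr.le ⟨x, rfl⟩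
    have hκe' : ∀ x : W, κ x = μ (π x) := fun x => by rw [hκe]; exact congrArg μ (Subtype.ext (hπhe x))
    have hκr : κ.range = R := range_eq_of_mem hκ (fun x => (hκe' x).symm ▸ hμR _) hcard
    obtain ⟨κ', hκ', hκ'e⟩ := hext κ hκ hκr fun γ hγ => by
      obtain ⟨h, hh, he⟩ := hΦ _ (hπΦ γ hγ)
      refine ⟨h, hh, fun x => ?_⟩
      rw [hκe', hκe', ← he, MulAut.mul_apply, MulAut.mul_apply, MulAut.inv_apply_self]
    -- compare them on `N`
    set V := (μ.comp (Subgroup.inclusion hUW)).range with hV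
    have hVc : E.IsCentric V := (kernel_of_weaklyNormal hS hE).centric_range hU (restrict_mem hμ hUW)
    have hκU : ∀ (x : Ω) (hx : x ∈ U), κ' ⟨x, hNW' (hUN hx)⟩ = μ' ⟨x, hNW' (hUN hx)⟩ := fun x hx => by
      rw [hκ'e ⟨x, hUW hx⟩, hμ'e ⟨x, hUW hx⟩, hκe', hfix x hx]
    have hagree : ∀ (n : Ω) (hn : n ∈ N), ∃ (v : Ω) (hv : v ∈ U),
        κ' ⟨n, hNW' hn⟩ = μ' (⟨n, hNW' hn⟩ * ⟨v, hNW' (hUN hv)⟩) := fun n hn => by
      set y := κ' ⟨n, hNW' hn⟩ with hy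
      set z := μ' ⟨n, hNW' hn⟩ with hz
      have hmem : z⁻¹ * y ∈ V := by
        refine hVc.2 V (isConj_refl E hVc.1) (mem_centralizerIn.2 ⟨mul_mem (inv_mem
          (FusionP3.StronglyClosed.apply_mem_of_stronglyClosed hcl hμ' _ (hNT hn)))
          (FusionP3.StronglyClosed.apply_mem_of_stronglyClosed hcl hκ' _ (hNT hn)), ?_⟩)
        rintro _ ⟨⟨x, hx⟩, rfl⟩
        have e0 : μ ⟨x, hUW hx⟩ = μ' ⟨x, hNW' (hUN hx)⟩ := (hμ'e ⟨x, hUW hx⟩).symm
        show μ ⟨x, hUW hx⟩ * (z⁻¹ * y) = z⁻¹ * y * μ ⟨x, hUW hx⟩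
        rw [e0]
        have hx' : n * x * n⁻¹ ∈ U := conj_mem_of_normalizer hn.2 hx
        have h1 : z * μ' ⟨x, hNW' (hUN hx)⟩ * z⁻¹ = y * μ' ⟨x, hNW' (hUN hx)⟩ * y⁻¹ := by
          conv_rhs => rw [← hκU x hx]
          rw [hy, hz, ← map_inv, ← map_mul, ← map_mul, ← map_inv, ← map_mul, ← map_mul]
          exact (hκU _ hx').symm
        calc μ' ⟨x, hNW' (hUN hx)⟩ * (z⁻¹ * y) = z⁻¹ * (z * μ' ⟨x, hNW' (hUN hx)⟩ * z⁻¹) * y := by group
          _ = _ := by rw [h1]; group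
      obtain ⟨⟨v, hv⟩, hvv⟩ := hmem
      refine ⟨v, hv, ?_⟩
      rw [map_mul, hμ'e ⟨v, hUW hv⟩, ← hz, show μ ⟨v, hUW hv⟩ = z⁻¹ * y from hvv, mul_inv_cancel_left]
    have hκW' : ∀ w, κ' w ∈ μ'.range := fun w => by
      obtain ⟨n, hn, c, hc, h⟩ := exists_mul_of_mem_sup hcommN w.2
      rw [show w = ⟨n, hNW' hn⟩ * ⟨c, hCW' hc⟩ from Subtype.ext h.symm, map_mul]
      refine mul_mem ?_ ?_
      · obtain ⟨v, hv, he⟩ := hagree n hn
        exact ⟨_, he.symm⟩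
      · refine ⟨⟨((π ⟨c, hCW hc⟩ : W) : Ω), hWW' (π _).2⟩, ?_⟩
        rw [hμ'e, hκ'e ⟨c, hCW hc⟩, hκe']
    obtain ⟨ν, hν, hνr, hνl, -⟩ := exists_inv hμ' rfl
    obtain ⟨χ, hχ, hχe⟩ := exists_comp hκ' hν hκW'
    have hχr : χ.range = W' := range_eq_of_mem hχ (fun w => by rw [hχe]; exact hνr.le ⟨_, rfl⟩) le_rfl
    set π₁ : MulAut W' := homEquiv hχ hχr with hπ₁
    have hval : ∀ (w u : W'), κ' w = μ' u → π₁ w = u := fun w u h => Subtype.ext (by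
      show χ w = _
      rw [hχe]
      exact (congrArg ν (Subtype.ext h : _ = (⟨μ' u, u, rfl⟩ : μ'.range))).trans (hνl _ _))
    have hπ₁W : ∀ x : W, π₁ ⟨x, hWW' x.2⟩ = ⟨π x, hWW' (π x).2⟩ := fun x =>
      hval _ _ (by rw [hκ'e, hμ'e, hκe'])
    have hpowW : ∀ (k : ℕ) (x : W), (π₁ ^ k) ⟨x, hWW' x.2⟩ = ⟨(π ^ k) x, hWW' ((π ^ k) x).2⟩ := fun k => by
      induction k with
      | zero => intro x; rfl
      | succ k ihk => intro x; rw [pow_succ π₁, MulAut.mul_apply, hπ₁W, ihk, pow_succ π, MulAut.mul_apply]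
    have hpowN : ∀ (k : ℕ) (n : Ω) (hn : n ∈ N) (v : Ω) (hv : v ∈ U),
        π₁ ⟨n, hNW' hn⟩ = ⟨n, hNW' hn⟩ * ⟨v, hNW' (hUN hv)⟩ →
        (π₁ ^ k) ⟨n, hNW' hn⟩ = ⟨n, hNW' hn⟩ * ⟨v, hNW' (hUN hv)⟩ ^ k := by
      intro k n hn v hv h
      have hv1 : π₁ ⟨v, hNW' (hUN hv)⟩ = ⟨v, hNW' (hUN hv)⟩ := by
        rw [show (⟨v, hNW' (hUN hv)⟩ : W') = ⟨((⟨v, hUW hv⟩ : W) : Ω), hWW' (hUW hv)⟩ from rfl, hπ₁W, hfix v hv]
      induction k with
      | zero => simp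
      | succ k ihk => rw [pow_succ', MulAut.mul_apply, ihk, map_mul, h, map_pow, hv1, mul_assoc, pow_succ']
    set π₂ := π₁ ^ p ^ a with hπ₂
    have hπ₂fix : ∀ (x : Ω) (hx : x ∈ N), π₂ ⟨x, hNW' hx⟩ = ⟨x, hNW' hx⟩ := fun n hn => by
      obtain ⟨v, hv, he⟩ := hagree n hn
      rw [hπ₂, hpowN _ n hn v hv (hval _ _ he)]
      apply Subtype.ext
      simp only [Subgroup.coe_mul, SubmonoidClass.coe_pow]
      rw [show v ^ p ^ a = 1 from congrArg Subtype.val (haT ▸ pow_card_eq_one' : (⟨v, hU.1 hv⟩ : T) ^ p ^ a = 1),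
        mul_one]
    have hπ₂F : π₂ ∈ F.autGroup W' := (F.autGroup W').pow_mem (homEquiv_mem_autGroup hχ hχr) _
    have hlt' := Induction.lt_normalizerIn hTp hlt
    haveI := finite_sub hNT
    have hcard' : Nat.card U < Nat.card N :=
      lt_of_not_ge fun he => hlt'.ne (Subgroup.eq_of_le_of_card_ge hUN he)
    have := Subgroup.card_le_of_le hNT
    obtain ⟨j, π', hπ', hπ'fix, hπ'c⟩ := ih (Nat.card T - Nat.card N) (by omega) N hNc le_rfl π₂ hπ₂F hπ₂fix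
    refine ⟨a + j, π', hπ', hπ'fix, fun c hc => ?_⟩
    have h1 := hπ'c c hc
    rw [hπ₂, ← pow_mul, ← pow_add, show (⟨c, le_sup_right (a := N) hc⟩ : W') =
      ⟨((⟨c, hCW hc⟩ : W) : Ω), hWW' (hCW hc)⟩ from rfl, hpowW] at h1
    exact h1

/-- The automorphisms of the base in the residual subsystem are good. -/
theorem agreeing_le_good :
    haveI := finite_sub hE.2.2.2.1.1
    agreeing E p ≤ (goodSystem hE hS).autGroup T := by
  have hF := hE.2.1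
  have hcl := hE.2.2.2.1
  have hTS : T ≤ S := hcl.1
  haveI := finite_sub hTS
  haveI := GT.finite_mulAut ↥T
  have hTp : IsPGroup p T := hS.to_le hTS
  obtain ⟨a, haT⟩ := (IsPGroup.iff_card).1 hTp
  refine (Subgroup.closure_le _).2 ?_
  rintro δ ⟨hδ, U, hU, hgen⟩
  set C := centralizerIn S T with hC
  set W : Subgroup Ω := U ⊔ C with hW
  set W₀ : Subgroup Ω := T ⊔ C with hW₀
  have hUW : U ≤ W := le_sup_left
  have hCW : C ≤ W := le_sup_right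
  have hTW₀ : T ≤ W₀ := le_sup_left
  have hCW₀ : C ≤ W₀ := le_sup_right
  have hWW₀ : W ≤ W₀ := sup_le_sup_right hU.1 C
  have hcommT : ∀ u ∈ T, ∀ c ∈ C, u * c = c * u := fun u hu c hc => comm_of_mem le_rfl hu hc
  have hδF : δ ∈ F.autGroup T := GT.autGroup_mono hE.2.2.1 le_rfl hδ
  obtain ⟨ψ, hψ, hψU, hψC⟩ := ((gen0_le_good hS hE U hgen).2 U hU le_rfl).congr (ψ := autRes δ hU.1) fun _ => rfl
  -- an extension of `δ`
  have hTn : F.IsFullyNormalized T := by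
    refine ⟨hTS, fun Q hQ => ?_⟩
    obtain ⟨φ, hφ, rfl⟩ := hQ
    rw [range_eq_of_mem hφ (fun x => FusionP3.StronglyClosed.apply_mem_of_stronglyClosed hcl hφ x x.2) le_rfl]
  have hTnorm : ∀ g ∈ S, g ∈ Subgroup.normalizer (T : Set Ω) := fun g hg =>
    mem_normalizer_of_conj_mem fun x hx => by
      simpa using FusionP3.StronglyClosed.apply_mem_of_stronglyClosed hcl (F.conj_mem le_rfl hg) ⟨x, hTS hx⟩ hx
  have hW₀S : W₀ ≤ S := sup_le hTS (centralizerIn_le T)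
  haveI := finite_sub hW₀S
  obtain ⟨D₀, hD₀, hD₀e⟩ := Induction.exists_extend_aut (receptive_of_fullyNormalized hS hF hTn)
    (show W₀ ≤ normalizerIn S T from fun g hg => ⟨hW₀S hg, hTnorm g (hW₀S hg)⟩) hδF (by
      intro g hg
      obtain ⟨t, ht, c, hc, rfl⟩ := exists_mul_of_mem_sup hcommT hg
      refine ⟨((δ ⟨t, ht⟩ : T) : Ω), hTS (δ _).2, fun x hx => ?_⟩
      have h0 : t * c * (x : Ω) * (t * c)⁻¹ = t * x * t⁻¹ := by
        have := hcommT x x.2 c hc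
        calc t * c * (x : Ω) * (t * c)⁻¹ = t * (c * x) * c⁻¹ * t⁻¹ := by group
          _ = t * x * t⁻¹ := by rw [← this]; group
      rw [show (⟨t * c * (x : Ω) * (t * c)⁻¹, hx⟩ : T) = ⟨t, ht⟩ * x * ⟨t, ht⟩⁻¹ from Subtype.ext h0, map_mul,
        map_mul, map_inv]
      rfl)
  have hDC : ∀ c (hc : c ∈ C), D₀ ⟨c, hCW₀ hc⟩ ∈ C := fun c hc => by
    refine ⟨apply_mem hD₀ _, fun y hy => ?_⟩
    obtain ⟨x, hx⟩ := δ.surjective ⟨y, hy⟩
    have e : y = D₀ ⟨x, hTW₀ x.2⟩ := by rw [hD₀e x x.2]; exact (congrArg Subtype.val hx).symm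
    rw [e, ← map_mul, ← map_mul]
    exact congrArg D₀ (Subtype.ext (hcommT x x.2 c hc))
  have hDr : D₀.range = W₀ := range_eq_of_mem hD₀ (fun w => by
    obtain ⟨t, ht, c, hc, h⟩ := exists_mul_of_mem_sup hcommT w.2
    rw [show w = ⟨t, hTW₀ ht⟩ * ⟨c, hCW₀ hc⟩ from Subtype.ext h.symm, map_mul, hD₀e t ht]
    exact mul_mem (hTW₀ (δ _).2) (hCW₀ (hDC c hc))) le_rfl
  set D : MulAut W₀ := homEquiv hD₀ hDr with hD
  have hDF : D ∈ F.autGroup W₀ := homEquiv_mem_autGroup hD₀ hDr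
  have hDT : ∀ (x : Ω) (hx : x ∈ T), D ⟨x, hTW₀ hx⟩ = ⟨((δ ⟨x, hx⟩ : T) : Ω), hTW₀ (δ ⟨x, hx⟩).2⟩ :=
    fun x hx => Subtype.ext (hD₀e x hx _)
  have hCfin : Finite C := finite_sub (centralizerIn_le T)
  have hDsurj : ∀ c ∈ C, ∃ (d : Ω) (hd : d ∈ C), D₀ ⟨d, hCW₀ hd⟩ = c := fun c hc => by
    have hinj : Function.Injective (fun d : C => (⟨_, hDC d d.2⟩ : C)) := fun d d' he =>
      Subtype.ext (congrArg (fun z : W₀ => (z : Ω)) (F.injective_of_mem hD₀ (congrArg Subtype.val he)))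
    obtain ⟨d, hd⟩ := Finite.surjective_of_injective hinj ⟨c, hc⟩
    exact ⟨d, d.2, congrArg Subtype.val hd⟩
  obtain ⟨D₁, hD₁, hD₁r, hD₁e⟩ := exists_hom_of_aut hW₀S ((F.autGroup W₀).inv_mem hDF)
  have hWS : W ≤ S := hWW₀.trans hW₀S
  haveI := finite_sub hWS
  have hψW₀ : ∀ w, ψ w ∈ W₀ := fun w => by
    obtain ⟨u, hu, c, hc, h⟩ := exists_mul_of_mem_sup (fun u hu c hc => comm_of_mem hU.1 hu hc) w.2
    rw [show w = ⟨u, hUW hu⟩ * ⟨c, hCW hc⟩ from Subtype.ext h.symm, map_mul, hψU u hu,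
      ← mul_inv_cancel_left c (ψ ⟨c, hCW hc⟩)]
    exact mul_mem (hTW₀ (δ _).2) (mul_mem (hCW₀ hc) (hTW₀ (hψC c hc)))
  obtain ⟨π₀, hπ₀, hπ₀e⟩ := exists_comp hψ hD₁ hψW₀
  have hπ₀e' : ∀ w, π₀ w = ((D⁻¹ ⟨ψ w, hψW₀ w⟩ : W₀) : Ω) := fun w => (hπ₀e w).trans (hD₁e _)
  have hπU : ∀ (x : Ω) (hx : x ∈ U), π₀ ⟨x, hUW hx⟩ = x := fun x hx => by
    rw [hπ₀e', show (⟨ψ ⟨x, hUW hx⟩, hψW₀ _⟩ : W₀) = D ⟨x, hTW₀ (hU.1 hx)⟩ from
      Subtype.ext ((hψU x hx).trans (congrArg Subtype.val (hDT x (hU.1 hx))).symm), MulAut.inv_apply_self]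
  have hV : E.IsCentric (img δ U) := (kernel_of_weaklyNormal hS hE).centric_img hU hδF
  have hπC : ∀ c (hc : c ∈ C), ∃ (d : Ω) (hd : d ∈ C) (u : Ω) (hu : u ∈ U),
      D₀ ⟨d, hCW₀ hd⟩ = c ∧ π₀ ⟨c, hCW hc⟩ = d * u := fun c hc => by
    obtain ⟨d, hd, hde⟩ := hDsurj c hc
    obtain ⟨u, hu, hue⟩ := offset_mem hE hU.1 hV (autRes_range δ hU.1) hψU hc (hψC c hc)
    refine ⟨d, hd, u, hu, hde, ?_⟩
    rw [hπ₀e', show (⟨ψ ⟨c, hCW hc⟩, hψW₀ _⟩ : W₀) = D (⟨d, hCW₀ hd⟩ * ⟨(u : Ω), hTW₀ u.2⟩) from ?_,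
      MulAut.inv_apply_self]
    · rfl
    · apply Subtype.ext
      show _ = D₀ _
      rw [map_mul, hde, hD₀e u u.2]
      exact (mul_inv_cancel_left c _).symm.trans (congrArg (c * ·) hue.symm)
  have hπr : π₀.range = W := range_eq_of_mem hπ₀ (fun w => by
    obtain ⟨u, hu, c, hc, h⟩ := exists_mul_of_mem_sup (fun u hu c hc => comm_of_mem hU.1 hu hc) w.2
    obtain ⟨d, hd, u', hu', -, he⟩ := hπC c hc
    rw [show w = ⟨u, hUW hu⟩ * ⟨c, hCW hc⟩ from Subtype.ext h.symm, map_mul, hπU u hu, he]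
    exact mul_mem (hUW hu) (mul_mem (hCW hd) (hUW hu'))) le_rfl
  set π : MulAut W := homEquiv hπ₀ hπr with hπ
  have hπfix : ∀ (x : Ω) (hx : x ∈ U), π ⟨x, hUW hx⟩ = ⟨x, hUW hx⟩ := fun x hx => Subtype.ext (hπU x hx)
  obtain ⟨j, π', hπ', hπ'fix, hπ'c⟩ :=
    exists_fix_base hS hE hU (homEquiv_mem_autGroup hπ₀ hπr : π ∈ F.autGroup W) hπfix
  have hDk : ∀ (k : ℕ) (x : Ω) (hx : x ∈ T),
      ((D ^ k) ⟨x, hTW₀ hx⟩ : W₀) = ⟨(((δ ^ k) ⟨x, hx⟩ : T) : Ω), hTW₀ ((δ ^ k) ⟨x, hx⟩).2⟩ := fun k => by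
    induction k with
    | zero => intro x hx; rfl
    | succ k ihk => intro x hx; rw [pow_succ D, MulAut.mul_apply, hDT, ihk, pow_succ δ, MulAut.mul_apply]
  have hrel : ∀ (k : ℕ) (c : Ω) (hc : c ∈ C),
      c⁻¹ * (((D ^ k) ⟨((π ^ k) ⟨c, hCW hc⟩ : W), hWW₀ ((π ^ k) ⟨c, hCW hc⟩).2⟩ : W₀) : Ω) ∈ T := by
    intro k
    induction k with
    | zero => intro c hc; simp
    | succ k ihk =>
      intro c hc
      obtain ⟨d, hd, u, hu, hde, he⟩ := hπC c hc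
      have hπk : ∀ i : ℕ, (π ^ i) ⟨u, hUW hu⟩ = ⟨u, hUW hu⟩ := fun i => by
        induction i with
        | zero => rfl
        | succ i ihi => rw [pow_succ, MulAut.mul_apply, hπfix u hu, ihi]
      have e1 : (π ^ (k + 1)) ⟨c, hCW hc⟩ = (π ^ k) ⟨d, hCW hd⟩ * ⟨u, hUW hu⟩ := by
        rw [pow_succ, MulAut.mul_apply, show π ⟨c, hCW hc⟩ = ⟨d, hCW hd⟩ * ⟨u, hUW hu⟩ from Subtype.ext he,
          map_mul, hπk]
      set q : W₀ := ⟨((π ^ k) ⟨d, hCW hd⟩ : W), hWW₀ ((π ^ k) ⟨d, hCW hd⟩).2⟩ with hq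
      have e2 : (⟨((π ^ (k + 1)) ⟨c, hCW hc⟩ : W), hWW₀ ((π ^ (k + 1)) ⟨c, hCW hc⟩).2⟩ : W₀) =
          q * ⟨u, hTW₀ (hU.1 hu)⟩ := Subtype.ext (by rw [e1]; rfl)
      have ht := ihk d hd
      have e3 : (D ^ k) q = ⟨d, hCW₀ hd⟩ * ⟨_, hTW₀ ht⟩ := Subtype.ext (mul_inv_cancel_left d _).symm
      rw [e2, map_mul, Subgroup.coe_mul, ← mul_assoc, hDk _ u (hU.1 hu), pow_succ' D, MulAut.mul_apply, e3,
        map_mul, hDT _ ht, Subgroup.coe_mul]
      refine mul_mem ?_ ((δ ^ (k + 1)) _).2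
      rw [show ((D ⟨d, hCW₀ hd⟩ : W₀) : Ω) = c from hde, ← mul_assoc, inv_mul_cancel, one_mul]
      exact (δ _).2
  set n := p ^ j with hn
  set β := D ^ n * π' with hβ
  have hβF : β ∈ F.autGroup W₀ := (F.autGroup W₀).mul_mem ((F.autGroup W₀).pow_mem hDF n) hπ'
  obtain ⟨B, hB, -, hBe⟩ := exists_hom_of_aut hW₀S hβF
  have hgood : Good F T T (T.subtype.comp (δ ^ n).toMonoidHom) := by
    refine ⟨B, hB, fun x hx => ?_, fun c hc => ?_⟩
    · rw [hBe, hβ, MulAut.mul_apply, hπ'fix x hx, hDk n x hx]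
      rfl
    · rw [hBe, hβ, MulAut.mul_apply,
        show π' ⟨c, hCW₀ hc⟩ = ⟨((π ^ n) ⟨c, hCW hc⟩ : W), hWW₀ ((π ^ n) ⟨c, hCW hc⟩).2⟩ *
          ⟨_, hTW₀ (hπ'c c hc)⟩ from Subtype.ext (mul_inv_cancel_left _ _).symm,
        map_mul, Subgroup.coe_mul, ← mul_assoc, hDk n _ (hπ'c c hc)]
      exact mul_mem (hrel n c hc) ((δ ^ n) _).2
  have hpowG : δ ^ n ∈ (goodSystem hE hS).autGroup T :=
    (mem_autGroup le_rfl).2 ⟨(mem_autGroup le_rfl).1 ((E.autGroup T).pow_mem hδ n),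
      fun V _ hle => hgood.restrict hle fun _ => rfl⟩
  set jj := ((Inn T).subgroupOf (E.autGroup T)).index with hjj
  haveI : ((Inn T).subgroupOf (E.autGroup T)).Normal := by
    refine ⟨fun m hm g => ?_⟩
    obtain ⟨q, hq⟩ := Subgroup.mem_subgroupOf.mp hm
    refine Subgroup.mem_subgroupOf.mpr ⟨g.1 q, ?_⟩
    rw [Subgroup.coe_mul, Subgroup.coe_mul, Subgroup.coe_inv, ← hq]
    exact MulEquiv.ext fun x => by simp [MulAut.mul_apply, MulAut.conj_apply]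
  have hjp : jj.Coprime p := by
    obtain ⟨R, hR⟩ := (fullyAutomized_of_fullyNormalized hTp hE.1 (isFullyNormalized_base E)).2
    have hTT : autInducedBy T T = Inn T := le_antisymm (fun α hα => by
      obtain ⟨g, hg, hge⟩ := mem_autInducedBy.1 hα
      exact ⟨⟨g, hg⟩, MulEquiv.ext fun x => Subtype.ext (hge x).symm⟩) (inn_le_autInducedBy le_rfl)
    rw [hjj, ← hTT, ← hR]
    exact ((Fact.out : p.Prime).coprime_iff_not_dvd.2 R.not_dvd_index).symm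
  have hjjG : δ ^ jj ∈ (goodSystem hE hS).autGroup T :=
    inn_le_autGroup _ le_rfl (Subgroup.pow_index_mem ((Inn T).subgroupOf (E.autGroup T)) ⟨δ, hδ⟩)
  have hco : Nat.gcd n jj = 1 := (hjp.symm.pow_left j)
  have hbez := Nat.gcd_eq_gcd_ab n jj
  rw [hco, Nat.cast_one] at hbez
  rw [SetLike.mem_coe, ← zpow_one δ, hbez, zpow_add, zpow_mul, zpow_mul, zpow_natCast, zpow_natCast]
  exact mul_mem (zpow_mem hpowG _) (zpow_mem hjjG _)

/-- The residual of index prime to `p` of a weakly normal subsystem is normal. -/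
theorem residual_isNormalIn {R : FusionSystem T} (hR : E.IsPPrimeResidual p R) : R.IsNormalIn F p := by
  have hcl := hE.2.2.2.1
  have hTS : T ≤ S := hcl.1
  haveI := finite_sub hTS
  have hTp : IsPGroup p T := hS.to_le hTS
  have hRtw : R.IsSubsystemOf (twisted (p := p) hTp E (agreeing E p) agreeing_le) :=
    hR.2.2 _ (twisted_saturated hTp hE.1 fam_centric agreeing_le
      (fun δ hδ P hP _ h => Subgroup.subset_closure ⟨hδ, P, hP, h⟩)) (twisted_index hTp hE.1 agreeing_le)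
  have h0 : (gen0 E p).IsSubsystemOf R := gen0_least fun Q hQ _ => hR.2.1.2 Q hQ.1
  have hG : agreeing E p ≤ R.autGroup T := (Subgroup.closure_le _).2 fun δ ⟨hδ, P, hP, h⟩ =>
    mem_of_agree_saturated hTp hE.1 hR.2.1.1 hR.1 hδ hP (h0 P h)
  have hsub : R.IsSubsystemOf F := fun P φ h => hE.2.2.1 P (hR.2.1.1 P h)
  refine ⟨⟨hR.1, hE.2.1, hsub, hcl, fun P hP φ hφ α hα => ?_, fun P hP φ hφ => ?_⟩, fun δ hδ => ?_⟩
  · obtain ⟨-, γ, hγ, e, he, hde⟩ := hRtw P hφ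
    obtain ⟨χ₀, hχ₀, hχ₀e⟩ := gen0_inv_ambient hTp hE.1 hE.2.2 hα P hP e he
    have hγ' := hG (agreeing_conj hTp hE hS hα hγ)
    obtain ⟨τ, hτ, -, hτe⟩ := exists_hom_of_aut le_rfl hγ'
    obtain ⟨χ, hχ, hχe⟩ := exists_comp (h0 _ hχ₀) hτ fun x => apply_mem hχ₀ x
    refine ⟨χ, hχ, fun x hφx hαx => ?_⟩
    refine ((hχe ⟨_, hαx⟩).trans (hτe _)).trans ?_
    have h1 := hχ₀e x (apply_mem he x) hαx
    refine congrArg (fun z : T => (z : Ω)) ?_
    rw [show (⟨χ₀ ⟨_, hαx⟩, apply_mem hχ₀ _⟩ : T) = α ⟨e x, apply_mem he x⟩ from Subtype.ext h1,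
      MulAut.mul_apply, MulAut.mul_apply, MulAut.inv_apply_self]
    exact congrArg α (Subtype.ext (hde x (apply_mem he x)).symm)
  · obtain ⟨α, hα, e, he, h⟩ := hE.2.2.2.2.2 P hP φ hφ
    obtain ⟨γ, hγ, e₀, he₀, h'⟩ := dec_of_mem hTp hE.1 he
    refine ⟨α * γ, (F.autGroup T).mul_mem hα (GT.autGroup_mono hE.2.2.1 le_rfl hγ), e₀, h0 P he₀, fun x hx => ?_⟩
    rw [h x (apply_mem he x), MulAut.mul_apply]
    exact congrArg (fun z => ((α z : T) : Ω)) (Subtype.ext (h' x hx))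
  · have hδg : δ ∈ (goodSystem hE hS).autGroup T := by
      obtain ⟨φ, hφ, -, hφe⟩ := exists_hom_of_aut le_rfl hδ
      obtain ⟨-, γ, hγ, e, he, hde⟩ := hRtw T hφ
      have h2 := gen0_le_good hS hE T he
      obtain ⟨τ, hτ, -, hτe⟩ := exists_hom_of_aut le_rfl (agreeing_le_good hS hE hγ)
      exact mem_autGroup_of_hom ((goodSystem hE hS).comp_mem h2 hτ fun x => apply_mem he x) fun x => by
        rw [← hφe]
        exact (hde x (apply_mem he x)).trans (hτe _).symm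
    have hTc : E.IsCentric T := ⟨le_rfl, fun Q ⟨φ, hφ, hr⟩ => by
      have hQ : Q = T := hr ▸ range_eq_of_mem hφ (fun x => apply_mem hφ x) le_rfl
      rw [hQ]
      exact centralizerIn_le T⟩
    obtain ⟨ψ, hψ, hψT, hψC⟩ := ((mem_autGroup le_rfl).1 hδg).2 T hTc le_rfl
    let C := centralizerIn S T
    have hW₀S : T ⊔ C ≤ S := sup_le hTS (centralizerIn_le T)
    haveI := finite_sub hW₀S
    have hr : ψ.range = T ⊔ C := range_eq_of_mem hψ (fun w => by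
      obtain ⟨t, ht, c, hc, h⟩ := exists_mul_of_mem_sup (fun u hu c hc => comm_of_mem le_rfl hu hc) w.2
      rw [show w = ⟨t, le_sup_left (b := C) ht⟩ * ⟨c, le_sup_right (a := T) hc⟩ from Subtype.ext h.symm, map_mul,
        hψT t ht, ← mul_inv_cancel_left c (ψ ⟨c, le_sup_right (a := T) hc⟩)]
      exact mul_mem (le_sup_left (b := C) (δ _).2) (mul_mem (le_sup_right (a := T) hc) (le_sup_left (b := C) (hψC c hc)))) le_rfl
    refine ⟨homEquiv hψ hr, homEquiv_mem_autGroup hψ hr, fun x => hψT x x.2, fun c hc => ?_⟩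
    have hrT : ((T.subtype.comp δ.toMonoidHom).comp (Subgroup.inclusion (le_refl T))).range = T := by
      ext y; exact ⟨fun ⟨x, hx⟩ => hx ▸ (δ x).2, fun hy => ⟨δ⁻¹ ⟨y, hy⟩, congrArg Subtype.val (δ.apply_symm_apply ⟨y, hy⟩)⟩⟩
    refine ⟨hψC c hc, fun v hv => ?_⟩
    have hoff : (c : Ω)⁻¹ * ψ ⟨(c : Ω), le_sup_right (a := T) hc⟩ ∈ C := by
      refine C.mul_mem (C.inv_mem hc) ⟨apply_mem hψ _, fun y hy => ?_⟩
      obtain ⟨x, rfl⟩ := hrT.ge hy
      have h1 := conj_fix le_rfl (ψ := ψ) x.2 hc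
      rw [hψT x x.2] at h1
      exact h1.symm
    exact hoff.2 v hv

end Key

end Cfsg.Agent.Lib.FusionP3.Prime.Normality
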