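import Cfsg.Agent.Lib.FusionP3.Prime.Normality

/-!
A saturated subsystem of `p`-power index over a normal subgroup is normal.
-/

set_option autoImplicit false
set_option linter.style.haveILetI false
set_option linter.unusedSectionVars false

namespace Cfsg.Agent.Lib.FusionP3.Prime.PPower

open Cfsg Cfsg.FusionSystem Cfsg.Agent.Lib.FS
open Cfsg.Agent.Lib.FusionP3.Prime
open Cfsg.Agent.Lib.Transfer.PResidual (sup_sylow_eq_top map_pResidual_le mem_pResidual pResidual_le_iff)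

variable {Ω : Type*} [Group Ω] {S : Subgroup Ω} [Finite S] {p : ℕ} [Fact p.Prime] {F : FusionSystem S}
variable {T : Subgroup Ω}

theorem autGroup_le_sup' (F : FusionSystem S) {P : Subgroup Ω} (hP : F.IsFullyAutomized p P) {K : Subgroup (MulAut P)}
    (h₁ : ∀ b ∈ F.autGroup P, (orderOf b).Coprime p → b ∈ K) (h₂ : autInducedBy S P ≤ K) :
    F.autGroup P ≤ K := by
  haveI : Finite P := finite_sub hP.1
  obtain ⟨-, R, hR⟩ := hP
  intro α hα
  have hm : (⟨α, hα⟩ : F.autGroup P) ∈ pResidual p (F.autGroup P) ⊔ (R : Subgroup _) := by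
    rw [sup_sylow_eq_top]; trivial
  refine (sup_le (pResidual_le_iff.2 fun b hb => ?_) ?_ :
    pResidual p (F.autGroup P) ⊔ (R : Subgroup _) ≤ K.comap (F.autGroup P).subtype) hm
  · exact h₁ b b.2 (by rwa [Subgroup.orderOf_coe])
  · rw [hR]
    exact fun b hb => h₂ hb

theorem stronglyClosed_of_hyperfocal_le (hS : IsPGroup p S) (hF : F.IsSaturated p) (hTS : T ≤ S)
    (hTn : (T.subgroupOf S).Normal) (hT : F.hyperfocalSubgroup p ≤ T) : F.StronglyClosed T := by
  refine ⟨hTS, fun R hR φ hφ x => ?_⟩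
  obtain ⟨g, hg, h⟩ := Tate.exists_conj_mod_hyperfocal hS hF R φ hφ
  have h1 : g * (x : Ω) * g⁻¹ ∈ T := hTn.conj_mem ⟨x, hTS (hR x.2)⟩ (hR x.2) ⟨g, hg⟩
  rw [← mul_inv_cancel_left (g * (x : Ω) * g⁻¹) (φ x)]
  exact mul_mem h1 (hT (h x))

theorem coprime_aut_mem {E : FusionSystem T} (hidx : E.HasPPowerIndexIn F p) {P : Subgroup Ω} (hP : P ≤ T)
    {b : MulAut P} (hb : b ∈ F.autGroup P) (hc : (orderOf b).Coprime p) : b ∈ E.autGroup P :=
  hidx.2.2 P hP ⟨⟨b, hb⟩, mem_pResidual (by rwa [Subgroup.orderOf_mk]), rfl⟩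

theorem inv_of_pPowerIndex (hS : IsPGroup p S) {E : FusionSystem T} (hcl : F.StronglyClosed T)
    (hEs : E.IsSaturated p) (hidx : E.HasPPowerIndexIn F p) {α : MulAut T} (hα : α ∈ F.autGroup T) :
    Inv E α := by
  have hTS : T ≤ S := hcl.1
  haveI := finite_sub hTS
  have hTp : IsPGroup p T := hS.to_le hTS
  intro P hP φ hφ
  have key : φ ∈ (pull E α).Hom P := by
    refine Induction.hom_induction hTp hEs (M := fun P φ => φ ∈ (pull E α).Hom P) ?_ ?_ ?_ P φ hφ
    · intro P Q φ ψ χ _ _ h hχ hp hq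
      exact hom_congr ((pull E α).comp_mem hp hq h) hχ
    · intro P Q φ ψ h _ hφψ hq
      exact mem_of_restrict hq h hφψ
    · intro R hRn _ _ a ha _
      have hRT : R ≤ T := hRn.1
      refine (mem_autGroup hRT).1 (autGroup_le_sup' E (fullyAutomized_of_fullyNormalized hTp hEs hRn)
        (fun b hb hc => ?_) (autInducedBy_le_autGroup _ hRT) ha)
      have hres : autRes α hRT ∈ F.Hom R := by
        obtain ⟨χ, hχ, -, he⟩ := exists_hom_of_aut hTS hα
        exact mem_of_restrict hχ hRT fun x => (he _).symm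
      have hr := autRes_range α hRT
      have hb' : MulAut.congr (homEquiv hres hr) b ∈ F.autGroup (img α R) :=
        congr_mem_autGroup hres hr (GT.autGroup_mono hidx.1 hRT hb)
      have hc' : (orderOf (MulAut.congr (homEquiv hres hr) b)).Coprime p := by
        rwa [MulEquiv.orderOf_eq]
      refine (mem_autGroup hRT).2 ⟨hRT, fun x => hRT (b x).2, _,
        (mem_autGroup (img_le α R)).1 (coprime_aut_mem hidx (img_le α R) hb' hc'), fun x hx hφx hαx => ?_⟩
      show ((homEquiv hres hr (b ((homEquiv hres hr).symm (homEquiv hres hr x))) : img α R) : Ω) = _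
      rw [MulEquiv.symm_apply_apply]
      rfl
  obtain ⟨-, -, χ, hχ, he⟩ := key
  exact ⟨χ, hχ, fun x => he x _⟩

/-- The maps whose restrictions into `T` factor through `Aut_F(T)`. -/
def decSystem (hcl : F.StronglyClosed T) (E : FusionSystem T) (hinv : ∀ α ∈ F.autGroup T, Inv E α) :
    FusionSystem S where
  Hom P := {φ | φ ∈ F.Hom P ∧ ∀ V, V ≤ T → ∀ h : V ≤ P, Dec (F.autGroup T) E (φ.comp (Subgroup.inclusion h))}
  le_of_mem h := F.le_of_mem h.1
  injective_of_mem h := F.injective_of_mem h.1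
  conj_mem := by
    intro P g hP hg
    refine ⟨F.conj_mem hP hg, fun V hV hle => ?_⟩
    haveI := finite_sub hcl.1
    have hn : g ∈ Subgroup.normalizer (T : Set Ω) := mem_normalizer_of_conj_mem fun x hx => by
      simpa using FusionP3.StronglyClosed.apply_mem_of_stronglyClosed hcl (F.conj_mem le_rfl hg) ⟨x, hcl.1 hx⟩ hx
    exact Dec.of_aut (α := T.normalizerMonoidHom ⟨g, hn⟩)
      (autInducedBy_le_autGroup F hcl.1 (mem_autInducedBy.2 ⟨g, hg, fun _ => rfl⟩)) hV fun x => rfl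
  comp_mem := by
    intro P Q φ ψ hφ hψ hm
    refine ⟨F.comp_mem hφ.1 hψ.1 hm, fun V hV hle => ?_⟩
    have hsub : (φ.comp (Subgroup.inclusion hle)).range ≤ Q := by rintro _ ⟨x, rfl⟩; exact hm _
    have hT' : (φ.comp (Subgroup.inclusion hle)).range ≤ T := by
      rintro _ ⟨x, rfl⟩
      exact FusionP3.StronglyClosed.apply_mem_of_stronglyClosed hcl hφ.1 _ (hV x.2)
    exact Dec.comp hinv (hφ.2 V hV hle) (hψ.2 _ hT' hsub) (fun x => ⟨x, rfl⟩) fun _ => rfl
  inv_mem := by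
    intro P φ hφ
    obtain ⟨ψ, hψ, hψe⟩ := F.inv_mem hφ.1
    refine ⟨ψ, ⟨hψ, fun V hV hle => ?_⟩, hψe⟩
    set χ := ψ.comp (Subgroup.inclusion hle) with hχ
    have hW : χ.range ≤ P := by
      rintro _ ⟨x, rfl⟩
      obtain ⟨y, hy⟩ := hle x.2
      rw [hχ, MonoidHom.comp_apply, show Subgroup.inclusion hle x = ⟨φ y, y, rfl⟩ from Subtype.ext hy.symm, hψe]
      exact y.2
    have hWT : χ.range ≤ T := by
      rintro _ ⟨x, rfl⟩
      exact FusionP3.StronglyClosed.apply_mem_of_stronglyClosed hcl hψ _ (hV x.2)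
    obtain ⟨ω, hω, hωe⟩ := Dec.inv hinv (hφ.2 _ hWT hW)
    have hval : ∀ x : V, φ ⟨χ x, hW ⟨x, rfl⟩⟩ = x := fun x => by
      obtain ⟨y, hy⟩ := hle x.2
      have h1 : χ x = y := by
        rw [hχ, MonoidHom.comp_apply, show Subgroup.inclusion hle x = ⟨φ y, y, rfl⟩ from Subtype.ext hy.symm, hψe]
      rw [show (⟨χ x, hW ⟨x, rfl⟩⟩ : P) = y from Subtype.ext h1, hy]
    refine hω.restrict (χ := χ) (fun x hx => ⟨⟨χ ⟨x, hx⟩, _, rfl⟩, hval ⟨x, hx⟩⟩) fun x => ?_
    exact (hωe ⟨χ x, x, rfl⟩).symm.trans (congrArg ω (Subtype.ext (hval x)))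

theorem frattini_of_pPowerIndex (hS : IsPGroup p S) (hF : F.IsSaturated p) {E : FusionSystem T}
    (hcl : F.StronglyClosed T) (hinv : ∀ α ∈ F.autGroup T, Inv E α) (hidx : E.HasPPowerIndexIn F p)
    {P : Subgroup Ω} (hP : P ≤ T) {φ : P →* Ω} (hφ : φ ∈ F.Hom P) : Dec (F.autGroup T) E φ := by
  have key : φ ∈ (decSystem hcl E hinv).Hom P := by
    refine Induction.hom_induction hS hF (M := fun P φ => φ ∈ (decSystem hcl E hinv).Hom P) ?_ ?_ ?_ P φ hφ
    · intro P Q φ ψ χ _ _ h hχ hp hq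
      exact hom_congr ((decSystem hcl E hinv).comp_mem hp hq h) hχ
    · intro P Q φ ψ h _ hφψ hq
      exact mem_of_restrict hq h hφψ
    · intro Q hQn _ _ a ha _
      have hQS : Q ≤ S := hQn.1
      haveI := finite_sub hQS
      refine (mem_autGroup hQS).1 (autGroup_le_sup' F (fullyAutomized_of_fullyNormalized hS hF hQn)
        (fun b hb hc => ?_) (autInducedBy_le_autGroup _ hQS) ha)
      refine (mem_autGroup hQS).2 ⟨(mem_autGroup hQS).1 hb, fun V hV hle => ?_⟩
      -- restrict to `Q ⊓ T`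
      set Y := Q ⊓ T with hY
      haveI := finite_sub ((inf_le_left : Y ≤ Q).trans hQS)
      obtain ⟨β, hβ, -, hβe⟩ := exists_hom_of_aut hQS hb
      obtain ⟨β', hβ', hβ'e⟩ := exists_restrict hβ (inf_le_left : Y ≤ Q)
      have hr : β'.range = Y := range_eq_of_mem hβ' (fun y => by
        refine ⟨?_, FusionP3.StronglyClosed.apply_mem_of_stronglyClosed hcl hβ' y y.2.2⟩
        show β' y ∈ Q
        rw [hβ'e, hβe]; exact (b _).2) le_rfl
      set c := homEquiv hβ' hr with hc'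
      have hpow : ∀ (k : ℕ) (y : Y), (((c ^ k) y : Y) : Ω) = (((b ^ k) ⟨y, y.2.1⟩ : Q) : Ω) := fun k => by
        induction k with
        | zero => intro y; rfl
        | succ k ih =>
          intro y
          rw [pow_succ c, MulAut.mul_apply, ih, pow_succ b, MulAut.mul_apply]
          exact congrArg (fun z => (((b ^ k) z : Q) : Ω)) (Subtype.ext ((hβ'e y).trans (hβe _)))
      have hcc : (orderOf c).Coprime p := hc.coprime_dvd_left (orderOf_dvd_of_pow_eq_one (MulEquiv.ext fun y =>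
        Subtype.ext (by rw [hpow, pow_orderOf_eq_one]; rfl)))
      have hcE := coprime_aut_mem hidx inf_le_right (homEquiv_mem_autGroup hβ' hr) hcc
      exact (Dec.of_mem ((mem_autGroup inf_le_right).1 hcE)).restrict (le_inf hle hV) fun x =>
        ((hβ'e ⟨x, le_inf hle hV x.2⟩).trans (hβe _)).symm
  exact (key.2 P hP le_rfl).congr fun _ => rfl

theorem isNormalIn_of_pPowerIndex (hS : IsPGroup p S) (hF : F.IsSaturated p) (hTS : T ≤ S)
    (hTn : (T.subgroupOf S).Normal) (hT : F.hyperfocalSubgroup p ≤ T) {E : FusionSystem T}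
    (hEs : E.IsSaturated p) (hidx : E.HasPPowerIndexIn F p) : E.IsNormalIn F p := by
  have hcl := stronglyClosed_of_hyperfocal_le hS hF hTS hTn hT
  haveI := finite_sub hTS
  haveI := GT.finite_mulAut ↥T
  have hTp : IsPGroup p T := hS.to_le hTS
  have hinv : ∀ α ∈ F.autGroup T, Inv E α := fun α hα => inv_of_pPowerIndex hS hcl hEs hidx hα
  have hE : E.IsWeaklyNormalIn F p := ⟨hEs, hF, hidx.1, hcl, fun P hP φ hφ α hα => hinv α hα P hP φ hφ,
    fun P hP φ hφ => frattini_of_pPowerIndex hS hF hcl hinv hidx hP hφ⟩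
  refine ⟨hE, fun α hα => ?_⟩
  set C := centralizerIn S T with hC
  have hW₀S : T ⊔ C ≤ S := sup_le hTS (centralizerIn_le T)
  haveI := finite_sub hW₀S
  haveI := GT.finite_mulAut ↥(T ⊔ C)
  have hTn' : F.IsFullyNormalized T := ⟨hTS, fun Q ⟨φ, hφ, hr⟩ => by
    rw [← hr, range_eq_of_mem hφ (fun x => FusionP3.StronglyClosed.apply_mem_of_stronglyClosed hcl hφ x x.2) le_rfl]⟩
  have hgood : E.autGroup T ≤ (Normality.goodSystem hE hS).autGroup T := by
    refine autGroup_le_sup' E (fullyAutomized_of_fullyNormalized hTp hEs (isFullyNormalized_base E))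
      (fun δ hδ hc => ?_) (autInducedBy_le_autGroup _ le_rfl)
    have hTnorm : ∀ g ∈ S, g ∈ Subgroup.normalizer (T : Set Ω) := fun g hg =>
      mem_normalizer_of_conj_mem fun x hx => by
        simpa using FusionP3.StronglyClosed.apply_mem_of_stronglyClosed hcl (F.conj_mem le_rfl hg) ⟨x, hTS hx⟩ hx
    have hcommT : ∀ u ∈ T, ∀ c ∈ C, u * c = c * u := fun u hu c hc => Normality.comm_of_mem le_rfl hu hc
    obtain ⟨D₀, hD₀, hD₀e⟩ := Induction.exists_extend_aut (receptive_of_fullyNormalized hS hF hTn')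
      (show T ⊔ C ≤ normalizerIn S T from fun g hg => ⟨hW₀S hg, hTnorm g (hW₀S hg)⟩)
      (GT.autGroup_mono hidx.1 le_rfl hδ) (by
        intro g hg
        obtain ⟨t, ht, c, hc, rfl⟩ := Normality.exists_mul_of_mem_sup hcommT hg
        refine ⟨((δ ⟨t, ht⟩ : T) : Ω), hTS (δ _).2, fun x hx => ?_⟩
        have h0 : t * c * (x : Ω) * (t * c)⁻¹ = t * x * t⁻¹ := by
          have := hcommT x x.2 c hc
          calc t * c * (x : Ω) * (t * c)⁻¹ = t * (c * x) * c⁻¹ * t⁻¹ := by group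
            _ = t * x * t⁻¹ := by rw [← this]; group
        rw [show (⟨t * c * (x : Ω) * (t * c)⁻¹, hx⟩ : T) = ⟨t, ht⟩ * x * ⟨t, ht⟩⁻¹ from Subtype.ext h0, map_mul,
          map_mul, map_inv]
        rfl)
    have hDC : ∀ c (hc : c ∈ C), D₀ ⟨c, le_sup_right (a := T) hc⟩ ∈ C := fun c hc => by
      refine ⟨apply_mem hD₀ _, fun y hy => ?_⟩
      obtain ⟨x, hx⟩ := δ.surjective ⟨y, hy⟩
      have e : y = D₀ ⟨x, le_sup_left (b := C) x.2⟩ := by
        rw [hD₀e x x.2]; exact (congrArg Subtype.val hx).symm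
      rw [e, ← map_mul, ← map_mul]
      exact congrArg D₀ (Subtype.ext (hcommT x x.2 c hc))
    have hDr : D₀.range = T ⊔ C := range_eq_of_mem hD₀ (fun w => by
      obtain ⟨t, ht, c, hc, h⟩ := Normality.exists_mul_of_mem_sup hcommT w.2
      rw [show w = ⟨t, le_sup_left (b := C) ht⟩ * ⟨c, le_sup_right (a := T) hc⟩ from Subtype.ext h.symm, map_mul,
        hD₀e t ht]
      exact mul_mem (le_sup_left (b := C) (δ _).2) (le_sup_right (a := T) (hDC c hc))) le_rfl
    set D := homEquiv hD₀ hDr with hD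
    have hDk : ∀ (k : ℕ) (x : Ω) (hx : x ∈ T),
        (((D ^ k) ⟨x, le_sup_left (b := C) hx⟩ : ↥(T ⊔ C)) : Ω) = (((δ ^ k) ⟨x, hx⟩ : T) : Ω) := fun k => by
      induction k with
      | zero => intro x hx; rfl
      | succ k ih =>
        intro x hx
        rw [pow_succ D, MulAut.mul_apply, show D ⟨x, le_sup_left (b := C) hx⟩ =
          ⟨((δ ⟨x, hx⟩ : T) : Ω), le_sup_left (b := C) (δ _).2⟩ from Subtype.ext (hD₀e x hx _), ih, pow_succ δ,
          MulAut.mul_apply]
    obtain ⟨e, m, hm, hem⟩ := Nat.exists_eq_pow_mul_and_not_dvd (orderOf_pos D).ne' p (Fact.out : p.Prime).ne_one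
    have hD' : (orderOf (D ^ p ^ e)).Coprime p := by
      refine Nat.Coprime.coprime_dvd_left (orderOf_dvd_of_pow_eq_one (n := m) ?_)
        ((Fact.out : p.Prime).coprime_iff_not_dvd.2 hm).symm
      rw [← pow_mul, ← hem, pow_orderOf_eq_one]
    have hDF : D ^ p ^ e ∈ F.autGroup (T ⊔ C) := (F.autGroup _).pow_mem (homEquiv_mem_autGroup hD₀ hDr) _
    obtain ⟨B, hB, -, hBe⟩ := exists_hom_of_aut hW₀S hDF
    have hg : Normality.Good F T T (T.subtype.comp (δ ^ p ^ e).toMonoidHom) := by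
      refine ⟨B, hB, fun x hx => (hBe _).trans (hDk _ x hx), fun c hc => ?_⟩
      rw [hBe]
      exact hT (Tate.hyperfocal_gen_mem (α := ⟨D ^ p ^ e, hDF⟩) hW₀S
        (mem_pResidual (by rwa [Subgroup.orderOf_mk])) ⟨c, le_sup_right (a := T) hc⟩)
    have hpow : δ ^ p ^ e ∈ (Normality.goodSystem hE hS).autGroup T :=
      (mem_autGroup le_rfl).2 ⟨(mem_autGroup le_rfl).1 ((E.autGroup T).pow_mem hδ _),
        fun V _ hle => hg.restrict hle fun _ => rfl⟩
    obtain ⟨i, hi⟩ := exists_pow_eq_self_of_coprime (n := p ^ e) (x := δ) (hc.symm.pow_left e)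
    exact hi ▸ Subgroup.pow_mem _ hpow i
  have hTc : E.IsCentric T := ⟨le_rfl, fun Q ⟨φ, hφ, hr⟩ => by
    have hQ : Q = T := hr ▸ range_eq_of_mem hφ (fun x => apply_mem hφ x) le_rfl
    rw [hQ]
    exact centralizerIn_le T⟩
  obtain ⟨ψ, hψ, hψT, hψC⟩ := ((mem_autGroup le_rfl).1 (hgood hα)).2 T hTc le_rfl
  have hcomm : ∀ u ∈ T, ∀ c ∈ C, u * c = c * u := fun u hu c hc => Normality.comm_of_mem le_rfl hu hc
  have hr : ψ.range = T ⊔ C := range_eq_of_mem hψ (fun w => by
    obtain ⟨t, ht, c, hc, h⟩ := Normality.exists_mul_of_mem_sup hcomm w.2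
    rw [show w = ⟨t, le_sup_left (b := C) ht⟩ * ⟨c, le_sup_right (a := T) hc⟩ from Subtype.ext h.symm, map_mul,
      hψT t ht, ← mul_inv_cancel_left c (ψ ⟨c, le_sup_right (a := T) hc⟩)]
    exact mul_mem (le_sup_left (b := C) (α _).2)
      (mul_mem (le_sup_right (a := T) hc) (le_sup_left (b := C) (hψC c hc)))) le_rfl
  refine ⟨homEquiv hψ hr, homEquiv_mem_autGroup hψ hr, fun x => hψT x x.2, fun c hc => ⟨hψC c hc, fun v hv => ?_⟩⟩
  have hoff : (c : Ω)⁻¹ * ψ ⟨(c : Ω), le_sup_right (a := T) hc⟩ ∈ C := by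
    refine C.mul_mem (C.inv_mem hc) ⟨apply_mem hψ _, fun y hy => ?_⟩
    obtain ⟨x, hx⟩ := α.surjective ⟨y, hy⟩
    have e : y = ψ ⟨x, le_sup_left (b := C) x.2⟩ := by
      rw [hψT x x.2]; exact (congrArg Subtype.val hx).symm
    rw [e]
    exact (Normality.conj_fix le_rfl (ψ := ψ) x.2 hc).symm
  exact hoff.2 v hv

end Cfsg.Agent.Lib.FusionP3.Prime.PPower
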