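import Cfsg.Agent.Lib.FusionP3.Prime.Factor
import Cfsg.Agent.Lib.FusionP3.Criterion.Main
import Cfsg.Agent.Lib.FusionP3.GT.Basic

/-!
Saturation of the twisted systems, and the residual subsystem of index prime to `p`.
-/

set_option autoImplicit false
set_option linter.style.haveILetI false
set_option linter.unusedSectionVars false

namespace Cfsg.Agent.Lib.FusionP3.Prime

open Cfsg Cfsg.FusionSystem Cfsg.Agent.Lib.FS
open Cfsg.Agent.Lib.FusionP3.Criterion

variable {Ω : Type*} [Group Ω] {S : Subgroup Ω} [Finite S] {p : ℕ} [Fact p.Prime] {F : FusionSystem S}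

theorem autRes_inv_range {α : MulAut S} {R : Subgroup Ω} (hR : R ≤ S) :
    (autRes α⁻¹ (img_le α R)).range = R := by
  rw [autRes_range]
  ext y
  constructor
  · intro hy
    have h := (mem_img (img_le _ _ hy)).1 hy
    rw [inv_inv, mem_img (α _).2] at h
    simpa using h
  · intro hy
    rw [mem_img (hR hy), inv_inv]
    exact apply_mem_img α hR ⟨y, hy⟩

/-- A family to test saturation on. -/
structure Fam (F : FusionSystem S) (p : ℕ) (ℋ : Set (Subgroup Ω)) : Prop where
  centric : ∀ P ∈ ℋ, F.IsCentric P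
  conj : ∀ P ∈ ℋ, ∀ Q, F.IsConj P Q → Q ∈ ℋ
  base : S ∈ ℋ
  radical : ∀ P, F.IsCentric P → F.IsRadical p P → P ∈ ℋ
  outside : ∀ P, F.IsCentric P → P ∉ ℋ →
    ∃ Q, F.IsConj P Q ∧ ∃ g ∈ S, g ∈ top F p Q ∧ g ∉ Q

variable {ℋ : Set (Subgroup Ω)}

theorem gen0_le_twisted (hS : IsPGroup p S) {G : Subgroup (MulAut S)} (hG : G ≤ F.autGroup S) :
    (gen0 F p).IsSubsystemOf (twisted (p := p) hS F G hG) :=
  fun _ _ h => ⟨gen0_le F p _ h, Dec.of_mem h⟩

theorem twisted_le (hS : IsPGroup p S) {G : Subgroup (MulAut S)} (hG : G ≤ F.autGroup S) :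
    (twisted (p := p) hS F G hG).IsSubsystemOf F :=
  fun _ _ h => h.1

theorem twisted_index (hS : IsPGroup p S) (hF : F.IsSaturated p) {G : Subgroup (MulAut S)}
    (hG : G ≤ F.autGroup S) : (twisted (p := p) hS F G hG).HasPrimeToPIndexIn F p :=
  ⟨twisted_le hS hG, fun _ hP => (gen0_index hS hF hP).trans (GT.autGroup_mono (gen0_le_twisted hS hG) hP)⟩

theorem mem_twisted_autGroup_base (hS : IsPGroup p S) {G : Subgroup (MulAut S)} (hG : G ≤ F.autGroup S)
    {α : MulAut S} (hα : α ∈ G) : α ∈ (twisted (p := p) hS F G hG).autGroup S :=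
  (mem_autGroup le_rfl).2 ⟨(mem_autGroup le_rfl).1 (hG hα), Dec.of_aut hα le_rfl fun _ => rfl⟩

/-- The twisted system is saturated when `G` contains every automorphism that agrees with the generated system
on some member of the family. -/
theorem twisted_saturated (hS : IsPGroup p S) (hF : F.IsSaturated p) (hH : Fam F p ℋ) {G : Subgroup (MulAut S)}
    (hG : G ≤ F.autGroup S)
    (hG₀ : ∀ δ ∈ F.autGroup S, ∀ P ∈ ℋ, ∀ hP : P ≤ S, autRes δ hP ∈ (gen0 F p).Hom P → δ ∈ G) :
    (twisted (p := p) hS F G hG).IsSaturated p := by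
  set E := twisted (p := p) hS F G hG with hE
  have hEF : E.IsSubsystemOf F := twisted_le hS hG
  have hle : (gen0 F p).IsSubsystemOf E := gen0_le_twisted hS hG
  have hconjF : ∀ {P Q : Subgroup Ω}, E.IsConj P Q → F.IsConj P Q := fun ⟨φ, hφ, hr⟩ => ⟨φ, hEF _ hφ, hr⟩
  refine Criterion.isSaturated (ℋ := ℋ) hS (fun P hP Q hQ => hH.conj P hP Q (hconjF hQ)) (fun P hP => ?_)
    (fun D hD => ?_) fun P hPc hPH => ?_
  · -- a fully normalized member
    obtain ⟨Q, hPQ, hQ⟩ := exists_isFullyNormalized F (hH.centric P hP).1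
    obtain ⟨φ, hφ, hr⟩ := hPQ
    obtain ⟨α, hα, e, he, h⟩ := dec_of_mem hS hF hφ
    set R := e.range with hR
    have hRS : R ≤ S := range_le_base he
    haveI := finite_sub hRS
    have hQimg : img α R = Q := by
      rw [← hr]
      ext y
      constructor
      · rintro ⟨z, ⟨x, hx⟩, rfl⟩
        exact ⟨x, (h x (apply_mem he x)).trans (congrArg (fun w => ((α w : S) : Ω)) (Subtype.ext hx))⟩
      · rintro ⟨x, rfl⟩
        rw [h x (apply_mem he x)]
        exact apply_mem_img α hRS ⟨e x, x, rfl⟩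
    subst hQimg
    have hPR : F.IsConj P R := ⟨e, gen0_le F p _ he, hR.symm⟩
    have hRimg : F.IsConj R (img α R) := ⟨_, autRes_mem hα hRS, autRes_range α hRS⟩
    have hcard : Nat.card (normalizerIn S (img α R)) ≤ Nat.card (normalizerIn S R) := by
      haveI := finite_sub (normalizerIn_le (S := S) R)
      have hψ := autRes_mem ((F.autGroup S).inv_mem hα) (normalizerIn_le (S := S) (img α R))
      refine card_le_of_hom hψ fun x => ?_
      refine apply_mem_normalizerIn hψ (le_normalizerIn (img_le α R)) ?_ x x.2.2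
      refine Eq.trans ?_ (autRes_inv_range (α := α) hRS)
      ext y
      constructor
      · rintro ⟨z, hz, rfl⟩; exact ⟨⟨z, hz⟩, rfl⟩
      · rintro ⟨z, rfl⟩; exact ⟨⟨z, le_normalizerIn (img_le α R) z.2⟩, z.2, rfl⟩
    have hRn : F.IsFullyNormalized R := ⟨hRS, fun W hW =>
      (hQ.2 W (isConj_trans (isConj_symm hRimg) hW)).trans hcard⟩
    refine ⟨R, ⟨e, hle _ he, hR.symm⟩, ⟨hRS, ?_⟩, hRS, fun A φ hφ hr => ?_⟩
    · haveI := GT.finite_mulAut ↥R
      obtain ⟨W, hW⟩ := (fullyAutomized_of_fullyNormalized hS hF hRn).2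
      refine exists_sylow_of_catches (autInducedBy_le_autGroup E hRS) (isPGroup_autInducedBy hS R)
        fun T hT hTp => ?_
      obtain ⟨a, -, ha⟩ := exists_conj_le_sylow W hW (hT.trans (GT.autGroup_mono hEF hRS)) hTp
      exact ⟨a, ha⟩
    · obtain ⟨hφF, γ, hγ, φ₀, hφ₀, hφe⟩ := hφ
      have hAS := src_le hφF
      obtain ⟨ψ, hψ, hψe⟩ := (receptive_of_fullyNormalized hS hF hRn).2 A φ hφF hr
      obtain ⟨β, hβ, ψ₀, hψ₀, hψ₀e⟩ := dec_of_mem hS hF hψ
      refine ⟨ψ, ⟨hψ, β, ?_, ψ₀, hψ₀, hψ₀e⟩, hψe⟩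
      have hA : A ≤ extender S A φ := le_extender hAS (apply_mem hφF)
      obtain ⟨ψA, hψA, hψAe⟩ := exists_restrict hψ₀ hA
      have hmem : ψA.range ∈ ℋ := hH.conj A (hH.conj P hP A (isConj_trans hPR (isConj_symm ⟨φ, hφF, hr⟩))) _
        ⟨ψA, gen0_le F p _ hψA, rfl⟩
      have hδ : γ⁻¹ * β ∈ G := by
        refine hG₀ _ (mul_mem ((F.autGroup S).inv_mem (hG hγ)) hβ) _ hmem (range_le_base hψA) ?_
        obtain ⟨η, hη, hηr, hηl, -⟩ := exists_inv hψA rfl
        refine mem_comp hη hφ₀ (fun y => hηr.le ⟨y, rfl⟩) ?_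
        rintro ⟨_, x, rfl⟩
        rw [autRes_apply, MulAut.mul_apply]
        refine Eq.trans ?_ (congrArg φ₀ (Subtype.ext (hηl x ⟨x, rfl⟩))).symm
        have h1 : β ⟨ψA x, range_le_base hψA ⟨x, rfl⟩⟩ = γ ⟨φ₀ x, apply_mem hφ₀ x⟩ := by
          apply Subtype.ext
          rw [← hφe x (apply_mem hφ₀ x), ← hψe x x.2 (hA x.2), hψ₀e _ (apply_mem hψ₀ _)]
          exact congrArg (fun z => ((β z : S) : Ω)) (Subtype.ext (hψAe x))
        rw [h1, MulAut.inv_apply_self]
      simpa using mul_mem hγ hδ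
  · -- generation
    have hc : Contains F p D := fun Q hQc hQr a ha =>
      (mem_autGroup hQc.1).2 (hD Q (hH.radical Q hQc hQr)
        ((mem_autGroup hQc.1).1 (GT.autGroup_mono hle hQc.1 (gen0_contains Q hQc hQr ha))))
    intro Q φ hφ
    obtain ⟨-, γ, hγ, e, he, h⟩ := hφ
    exact mem_of_dec (gen0_least hc)
      ((mem_autGroup le_rfl).2 (hD S hH.base ((mem_autGroup le_rfl).1 (mem_twisted_autGroup_base hS hG hγ)))) he h
  · -- centric subgroups outside the family
    have hPc' := (isCentric_iff hS hF hEF hle).1 hPc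
    obtain ⟨Q, ⟨φ, hφ, hr⟩, g, hgS, hg, hgQ⟩ := hH.outside P hPc' hPH
    obtain ⟨α, hα, e, he, h⟩ := dec_of_mem hS hF hφ
    set R := e.range with hR
    have hRS : R ≤ S := range_le_base he
    have hQimg : Q = img α R := by
      rw [← hr]
      ext y
      constructor
      · rintro ⟨x, rfl⟩
        rw [h x (apply_mem he x)]
        exact apply_mem_img α hRS ⟨e x, x, rfl⟩
      · rintro ⟨z, ⟨x, hx⟩, rfl⟩
        exact ⟨x, (h x (apply_mem he x)).trans (congrArg (fun w => ((α w : S) : Ω)) (Subtype.ext hx))⟩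
    subst hQimg
    refine ⟨R, ⟨e, hle _ he, hR.symm⟩, fun hle' => ?_⟩
    have hψ := autRes_mem ((F.autGroup S).inv_mem hα) (le_refl S)
    have hmap : ((img α R).subgroupOf S).map (autRes α⁻¹ (le_refl S)) = R := by
      refine Eq.trans ?_ (autRes_inv_range (α := α) hRS)
      ext y
      constructor
      · rintro ⟨z, hz, rfl⟩; exact ⟨⟨z, hz⟩, rfl⟩
      · rintro ⟨z, rfl⟩; exact ⟨⟨z, img_le α R z.2⟩, z.2, rfl⟩
    set g' := autRes α⁻¹ (le_refl S) ⟨g, hgS⟩ with hg'
    obtain ⟨hg'N, w, hw, hwe⟩ := (apply_mem_top_iff (img_le α R) hψ hmap ⟨g, hgS⟩ (top_le _ hg).2).2 hg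
    have hwi : w ∈ autInducedBy S R := mem_autInducedBy.2 ⟨g', hg'N.1, hwe⟩
    have hwE : w ∈ opAut E p R := by
      haveI := finite_sub hRS
      haveI := GT.finite_mulAut ↥R
      have hwpp : ∀ o ∈ opAut F p R, o ∈ E.autGroup R := fun o ho => by
        obtain ⟨k, hk⟩ := isPGroup_opAut (F := F) hRS ⟨o, ho⟩
        exact GT.autGroup_mono hle hRS (gen0_index hS hF hRS
          (mem_pp_of_pow (opAut_le R ho) (congrArg Subtype.val hk)))
      haveI : ((opAut F p R).subgroupOf (E.autGroup R)).Normal :=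
        ⟨fun n hn a => Subgroup.mem_subgroupOf.2 (conj_mem_opAut (GT.autGroup_mono hEF hRS a.2)
          (Subgroup.mem_subgroupOf.1 hn))⟩
      exact ⟨⟨w, hwpp w hw⟩, Cores.le_pCore (N := (opAut F p R).subgroupOf (E.autGroup R))
        ((isPGroup_opAut (F := F) hRS).of_equiv (Subgroup.subgroupOfEquivOfLe hwpp).symm)
        (Subgroup.mem_subgroupOf.2 hw), rfl⟩
    obtain ⟨r, hr'⟩ := hle' ⟨hwi, hwE⟩
    have hcent : (r : Ω)⁻¹ * g' ∈ centralizerIn S R := by
      refine mem_centralizerIn'.2 ⟨mul_mem (inv_mem (hRS r.2)) hg'N.1, fun y hy => ?_⟩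
      have h1 := hwe ⟨y, hy⟩
      rw [← hr'] at h1
      simp only [MulAut.conj_apply, Subgroup.coe_mul, Subgroup.coe_inv] at h1
      calc (r : Ω)⁻¹ * g' * y * ((r : Ω)⁻¹ * g')⁻¹ = (r : Ω)⁻¹ * (g' * y * g'⁻¹) * r := by group
        _ = y := by rw [← h1]; group
    have hg'R : g' ∈ R := by
      simpa using mul_mem r.2 (hPc'.2 R ⟨e, gen0_le F p _ he, hR.symm⟩ hcent)
    exact hgQ ((((map_eq_iff (img_le α R) hψ).1 hmap).1 ⟨g, hgS⟩).2 hg'R)

theorem fam_centric : Fam F p {P | F.IsCentric P} where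
  centric _ h := h
  conj _ h _ hQ := Cfsg.Agent.Lib.Transfer.FusionLocal.isCentric_of_isConj hQ h
  base := ⟨le_rfl, fun Q hQ => by
    rw [Subgroup.eq_of_le_of_card_ge (isConj_le_right hQ) (isConj_card hQ).ge]
    exact centralizerIn_le S⟩
  radical _ h _ := h
  outside _ h h' := absurd h h'

/-- An automorphism of `S` in `F` that agrees on a centric subgroup with a saturated subsystem lies in it. -/
theorem mem_of_agree_saturated (hS : IsPGroup p S) (hF : F.IsSaturated p) {D : FusionSystem S}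
    (hDF : D.IsSubsystemOf F) (hD : D.IsSaturated p) {δ : MulAut S} (hδ : δ ∈ F.autGroup S) {P : Subgroup Ω}
    (hP : F.IsCentric P) (h : autRes δ hP.1 ∈ D.Hom P) : δ ∈ D.autGroup S := by
  suffices key : ∀ (d : ℕ) (P : Subgroup Ω) (hP : F.IsCentric P), Nat.card S - Nat.card P ≤ d →
      autRes δ hP.1 ∈ D.Hom P → δ ∈ D.autGroup S from key _ P hP le_rfl h
  intro d
  induction d using Nat.strong_induction_on with
  | _ d ih =>
    intro P hP hd h
    rcases hP.1.lt_or_eq with hlt | heq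
    swap
    · subst heq; exact mem_autGroup_of_hom h fun _ => rfl
    have hNS := normalizerIn_le (S := S) P
    have hr := autRes_range δ hP.1
    have hPF : F.IsConj P (img δ P) := ⟨_, autRes_mem hδ hP.1, hr⟩
    have hc' := Cfsg.Agent.Lib.Transfer.FusionLocal.isCentric_of_isConj hPF hP
    obtain ⟨ψ, hψ, hψe⟩ := (receptive_of_fullyCentralized hS hD
      (FusionEssential.Centric.fullyCentralized_of_centric
        (FusionEssential.Centric.isCentric_of_le hDF hc'))).2 P _ h hr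
    have hN : normalizerIn S P ≤ extender S P (autRes δ hP.1) := fun g hg =>
      mem_extender_of hg (δ ⟨g, hNS hg⟩).2 fun x hx => by
        rw [autRes_apply, autRes_apply, show (⟨g * (x : Ω) * g⁻¹, hP.1 hx⟩ : S) =
          ⟨g, hNS hg⟩ * ⟨x, hP.1 x.2⟩ * ⟨g, hNS hg⟩⁻¹ from Subtype.ext rfl, map_mul, map_mul, map_inv]
        rfl
    obtain ⟨ψN, hψN, hψNe⟩ := exists_restrict hψ hN
    have hPN := le_normalizerIn (S := S) hP.1
    obtain ⟨z, hzP, -, hz⟩ := exists_conj_of_agree_le hS hF hPN hP (hDF _ hψN) (autRes_mem hδ hNS)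
      (fun x hx => by rw [hψNe, hψe x hx (hN x.2)]; rfl)
    have hNc := FusionEssential.Centric.isCentric_overgroup hP hPN hNS
    haveI := finite_sub hNS
    have hlt' := Induction.lt_normalizerIn hS hlt
    have hcard : Nat.card P < Nat.card (normalizerIn S P) :=
      lt_of_not_ge fun he => hlt'.ne (Subgroup.eq_of_le_of_card_ge hlt'.le he)
    have := Subgroup.card_le_of_le hNS
    refine ih (Nat.card S - Nat.card (normalizerIn S P)) (by omega) _ hNc le_rfl ?_
    refine mem_comp (D.conj_mem hNS (hNS z.2)) hψN (fun x => ?_) fun x => ?_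
    · exact mul_mem (mul_mem z.2 x.2) (inv_mem z.2)
    · rw [hz]
      exact congrArg ψN (Subtype.ext rfl)

/-- The automorphisms of `S` agreeing with the generated system on a centric subgroup. -/
def agreeing (F : FusionSystem S) (p : ℕ) : Subgroup (MulAut S) :=
  Subgroup.closure {δ | δ ∈ F.autGroup S ∧ ∃ P, ∃ hP : F.IsCentric P, autRes δ hP.1 ∈ (gen0 F p).Hom P}

theorem agreeing_le : agreeing F p ≤ F.autGroup S := (Subgroup.closure_le _).2 fun _ h => h.1

/-- The residual subsystem exists. -/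
theorem exists_residual (hS : IsPGroup p S) (hF : F.IsSaturated p) :
    ∃ E : FusionSystem S, F.IsPPrimeResidual p E := by
  refine ⟨twisted (p := p) hS F (agreeing F p) agreeing_le, twisted_saturated hS hF fam_centric agreeing_le
    (fun δ hδ P hP _ h => Subgroup.subset_closure ⟨hδ, P, hP, h⟩), twisted_index hS hF agreeing_le,
    fun D hD hDi => ?_⟩
  have h0 : (gen0 F p).IsSubsystemOf D := gen0_least fun Q hQ _ => hDi.2 Q hQ.1
  have hG : agreeing F p ≤ D.autGroup S := (Subgroup.closure_le _).2 fun δ ⟨hδ, P, hP, h⟩ =>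
    mem_of_agree_saturated hS hF hDi.1 hD hδ hP (h0 P h)
  rintro Q φ ⟨-, γ, hγ, e, he, h⟩
  exact mem_of_dec h0 (hG hγ) he h

end Cfsg.Agent.Lib.FusionP3.Prime
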